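import Cfsg.Agent.Lib.Fischer.Big.Local22
import Cfsg.Agent.GenA.Tower.Graph23

/-!
Fischer's theorem: the numbers over local groups of type M(22).
-/

set_option autoImplicit false
set_option linter.unusedSectionVars false

namespace Cfsg.Agent.Fischer.Big

open Cfsg.Agent.ThreeTransp
open Cfsg.Agent.ThreeTransp.Factor (nb Hd Sd Dq Sep)
open Cfsg.Agent.ThreeTransp.Cover (mem_nb_symm)
open Cfsg.Agent.GenA.Tower (sdCongr image_Dq image_conj type22 far pr pr_mem pr_comm ncard_pr
  image_nb_pr image_one image_two grp_strip hex22 inner22)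

universe u

/-- Every member has a local group of type M(22). -/
structure Over22 {G : Type u} [Group G] (D : Set G) : Prop where
  std : Std D
  loc : ∀ a ∈ D, Cfsg.IsOfTypeM22 (Sd D a) (Dq D a)

variable {G : Type u} [Group G] {D : Set G}

theorem over22 (h : Std D) {x : G} (hx : x ∈ D)
    (hE : Cfsg.IsOfTypeM22 (Quot (nb D x)) (img (nb D x))) : Over22 D := by
  refine ⟨h, fun a ha => ?_⟩
  obtain ⟨g, hg⟩ := h.prim.1 x hx a ha
  have hE' : Cfsg.IsOfTypeM22 (Sd D x) (Dq D x) := hE
  have := type22 (sdCongr (MulAut.conj g) D x) (Dq D x) hE'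
  rw [image_Dq, image_conj h.grp, show MulAut.conj g x = a from hg] at this
  exact this

variable [Finite G] (S : Over22 D)
include S

theorem Over22.hex : ∀ a ∈ D, Cfsg.pCore 2 (Sd D a) = ⊥ ∧ Nontrivial (Sd D a) := fun _ ha =>
  hex22 (grp_strip S.std.grp _) (Factor.strip_one (S.loc _ ha))

theorem Over22.sep {a : G} (ha : a ∈ D) : Sep D a :=
  (GenA.Tower.core_at S.std.grp S.std.prim S.std.cent S.hex ha).2.2

theorem Over22.lgrp {a : G} (ha : a ∈ D) : Cfsg.IsThreeTranspositionGroup (Dq D a) :=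
  GenA.Tower.local_grp S.std.grp S.std.prim S.std.cent S.hex ha

theorem Over22.lprim {a : G} (ha : a ∈ D) : Cfsg.IsPrimitiveUnderConj (Dq D a) :=
  GenA.Tower.local_prim S.std.grp S.std.prim S.std.cent S.hex
    (fun _ hb => inner22 (S.lgrp hb) (S.loc _ hb)) ha

theorem Over22.ncard_nb {a : G} (ha : a ∈ D) : (nb D a).ncard = 3510 := by
  rw [← ncard_pr (S.sep ha) (subset_refl _), image_nb_pr,
    M22.ncard_class (S.lgrp ha) (S.lprim ha) (S.loc a ha)]

theorem Over22.ncard_one {a x : G} (ha : a ∈ D) (hx : x ∈ nb D a) : (nb D a ∩ nb D x).ncard = 693 := by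
  have hD := S.std.grp
  rw [← ncard_pr (S.sep ha) Set.inter_subset_left, image_one hD (S.sep ha) hx,
    M22.ncard_nb (S.lgrp ha) (S.lprim ha) (S.loc a ha) (pr_mem hx)]

theorem Over22.ncard_adj {a x z : G} (ha : a ∈ D) (hx : x ∈ nb D a) (hz : z ∈ nb D a) (hne : x ≠ z)
    (hc : Commute x z) : (nb D a ∩ nb D x ∩ nb D z).ncard = 180 := by
  have hD := S.std.grp
  rw [← ncard_pr (S.sep ha) (Set.inter_subset_left.trans Set.inter_subset_left),
    image_two hD (S.sep ha) hx hz,
    M22.ncard_nb_inter (S.lgrp ha) (S.lprim ha) (S.loc a ha) (pr_mem hx)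
      ((GenA.Tower.pr_nb hD (S.sep ha) hx hz).2 ⟨hz.1, hne.symm, hc⟩)]

theorem Over22.ncard_cross {a x z : G} (ha : a ∈ D) (hx : x ∈ nb D a) (hz : z ∈ nb D a)
    (hc : ¬ Commute x z) : (nb D a ∩ nb D x ∩ nb D z).ncard = 126 := by
  have hD := S.std.grp
  rw [← ncard_pr (S.sep ha) (Set.inter_subset_left.trans Set.inter_subset_left),
    image_two hD (S.sep ha) hx hz,
    M22.ncard_inter (S.lgrp ha) (S.lprim ha) (S.loc a ha) (pr_mem hx) (pr_mem hz)
      fun h => hc ((pr_comm hD hx hz).1 h)]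

/-- What a common set looks like from one of its members. -/
theorem Over22.localOK {x c a : G} (hx : x ∈ D) (hc : c ∈ D) (hxc : ¬ Commute x c) (ha : a ∈ com D x c) :
    LocalOK (com (nb D a) x c) := by
  have hD := S.std.grp
  have haD : a ∈ D := ha.1.1
  have hxa : x ∈ nb D a := mem_nb_symm hx ha.1
  have hca : c ∈ nb D a := mem_nb_symm hc ha.2
  refine localOK_of_pr hD (S.sep haD) (fun y hy => hy.1.1) ?_
  rw [image_com hD (S.sep haD) hxa hca]
  exact (space22 (S.lgrp haD) (S.lprim haD) (S.loc a haD) (pr_mem hxa) (pr_mem hca)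
    fun h => hxc ((pr_comm hD hxa hca).1 h)).localOK

/-- Non-commuting members have 351 common neighbours. -/
theorem Over22.ncard_com {x c : G} (hx : x ∈ D) (hc : c ∈ D) (hxc : ¬ Commute x c) :
    (com D x c).ncard = 351 := by
  classical
  have hD := S.std.grp
  have hprim := S.std.prim
  have hw := S.std.wide
  have hk : ∀ a ∈ D, (nb D a).ncard = 3510 := fun a ha => S.ncard_nb ha
  have hl : ∀ a ∈ D, ∀ y ∈ nb D a, (nb D a ∩ nb D y).ncard = 693 := fun a ha y hy => S.ncard_one ha hy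
  obtain ⟨N, -, hNc, hS1, hS2⟩ := GenA.Tower.pair_moments hD hprim hw (k := 3510) (l := 693) (d := 126)
    (e := 180) hk hl (fun a ha y hy z hz => S.ncard_adj ha hy hz)
    (fun a ha y hy z hz => S.ncard_cross ha hy hz) hx hc hxc
  have hprod := GenA.Tower.far_mul hD hprim hw (k := 3510) (l := 693) hk hl hx hc hxc
  have hcs := sq_sum_le_card_mul_sum_sq (s := N)
    (f := fun z => ((nb D x ∩ nb D c ∩ nb D z).ncard : ℤ))
  rw [hS1, hS2] at hcs
  have hpos := (Set.ncard_pos (Set.toFinite _)).2 (GenA.Tower.pair_nonempty hD hprim hw hx hc hxc)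
  haveI : Fintype D := Fintype.ofFinite _
  have key := GenA.Tower.srg hD (n := D.ncard) (k := 3510) (l := 693) (μ := (nb D x ∩ nb D c).ncard)
    hk hl (fun a' ha' c' hc' h' => GenA.Tower.pair_const hD hprim hw ha' hc' h' hx hc hxc) rfl
  have hn := GenA.Tower.ncard_D hD hx
  rw [hk x hx] at hn
  show (nb D x ∩ nb D c).ncard = 351
  generalize hs : (nb D x ∩ nb D c).ncard = s at hprod hNc hpos hcs key
  generalize hl' : (far D x).ncard = l at hprod hn
  have hN' : (N.card : ℤ) = 3510 - s := by omega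
  rw [hN'] at hcs
  norm_num at hcs hprod
  have hs0 : (0 : ℤ) < s := by exact_mod_cast hpos
  have h' : ((s : ℤ) - 351) * ((s : ℤ) - 675) ≤ 0 := by
    by_contra hlt
    push Not at hlt
    nlinarith [mul_pos hs0 hlt]
  have h1 : 351 ≤ s := by
    by_contra hlt
    push Not at hlt
    have : (0 : ℤ) < ((s : ℤ) - 351) * ((s : ℤ) - 675) :=
      mul_pos_of_neg_of_neg (by omega) (by omega)
    omega
  have h2 : s ≤ 675 := by
    by_contra hgt
    push Not at hgt
    have : (0 : ℤ) < ((s : ℤ) - 351) * ((s : ℤ) - 675) := mul_pos (by omega) (by omega)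
    omega
  have hl0 : 0 < l := Nat.pos_of_ne_zero fun e => by rw [e] at hprod; omega
  obtain ⟨j, hj⟩ := M22.Discr.discr_square _ key (by omega) (by norm_num) (by omega) (by
    rw [hn]
    push_cast
    have : (0 : ℤ) ≤ ((3510 : ℤ) + l) * ((693 : ℤ) - s) := mul_nonneg (by omega) (by omega)
    intro h0
    nlinarith [this, h0])
  exact GenA.Tower.M23.mu_cases h1 h2 ⟨l, by rw [← hprod, mul_comm]⟩ hj

/-- The component of a member fills the common set. -/
theorem Over22.comp_eq_com {x c a : G} (hx : x ∈ D) (hc : c ∈ D) (hxc : ¬ Commute x c) (ha : a ∈ com D x c) :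
    Space (com D x c) ∧ ∀ p ∈ com D x c, (nb (com D x c) p).ncard = 126 := by
  have hD := S.std.grp
  have hdeg : ∀ p ∈ com D x c, (com D x c ∩ nb D p).ncard = 126 := fun p hp => by
    rw [show com D x c ∩ nb D p = nb D p ∩ nb D x ∩ nb D c by
      ext; simp only [com, Set.mem_inter_iff]; tauto]
    exact S.ncard_cross hp.1.1 (mem_nb_symm hx hp.1) (mem_nb_symm hc hp.2) hxc
  have hsub : insert a (com D x c ∩ nb D a) ⊆ comp (com D x c) a := by
    rintro y (rfl | hy)
    · exact mem_comp_self _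
    · exact comp_closed (mem_comp_self a) ha hy.1 hy.2.2.2
  have h127 := Set.ncard_le_ncard hsub (Set.toFinite _)
  rw [Set.ncard_insert_of_notMem (fun h => h.2.2.1 rfl) (Set.toFinite _), hdeg a ha] at h127
  obtain ⟨j, hj⟩ := comps_three_pow (com_tt hD) (com_conj hD) ⟨a, ha⟩
  have e := ncard_eq_comps_mul (com_tt hD) (com_conj hD) ha
  rw [hj, S.ncard_com hx hc hxc] at e
  have hcomp : comp (com D x c) a = com D x c := by
    rcases Nat.eq_zero_or_pos j with rfl | hj0
    · rw [pow_zero, one_mul] at e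
      exact Set.eq_of_subset_of_ncard_le (comp_subset ha) (by rw [S.ncard_com hx hc hxc, e])
    · exfalso
      have h3 : 3 ≤ 3 ^ j := Nat.le_self_pow (by omega) 3
      have := Nat.mul_le_mul_right (comp (com D x c) a).ncard h3
      omega
  have hS := comp_space hD (fun p hp => S.localOK hx hc hxc hp) ha
  rw [hcomp] at hS
  refine ⟨hS, fun p hp => ?_⟩
  rw [show nb (com D x c) p = com D x c ∩ nb D p from Set.ext fun y =>
    ⟨fun h => ⟨h.1, h.1.1.1, h.2.1, h.2.2⟩, fun h => ⟨h.1, h.2.2.1, h.2.2.2⟩⟩]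
  exact hdeg p hp

end Cfsg.Agent.Fischer.Big
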