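import Cfsg.Agent.Lib.Fischer.Big.Facts22
import Cfsg.Agent.GenA.Tower.Graph24

/-!
Fischer's theorem: the numbers over local groups of type M(23).
-/

set_option autoImplicit false
set_option linter.unusedSectionVars false

namespace Cfsg.Agent.Fischer.Big

open Cfsg.Agent.ThreeTransp
open Cfsg.Agent.ThreeTransp.Factor (nb Hd Sd Dl Dq Sep grp_Dq)
open Cfsg.Agent.ThreeTransp.Cover (mem_nb_symm)
open Cfsg.Agent.GenA.Tower (sdCongr image_Dq image_conj type23 far pr pr_mem pr_comm ncard_pr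
  image_nb_pr image_one image_two inner23 local22)

universe u

/-- Every member has a local group of type M(23). -/
structure Over23 {G : Type u} [Group G] (D : Set G) : Prop where
  std : Std D
  loc : ∀ a ∈ D, Cfsg.IsOfTypeM23 (Sd D a) (Dq D a)

variable {G : Type u} [Group G] {D : Set G}

theorem over23 (h : Std D) {x : G} (hx : x ∈ D)
    (hE : Cfsg.IsOfTypeM23 (Quot (nb D x)) (img (nb D x))) : Over23 D := by
  refine ⟨h, fun a ha => ?_⟩
  obtain ⟨g, hg⟩ := h.prim.1 x hx a ha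
  have hE' : Cfsg.IsOfTypeM23 (Sd D x) (Dq D x) := hE
  have := type23 (sdCongr (MulAut.conj g) D x) (Dq D x) hE'
  rw [image_Dq, image_conj h.grp, show MulAut.conj g x = a from hg] at this
  exact this

variable [Finite G] (S : Over23 D)
include S

theorem Over23.htrS {a : G} (ha : a ∈ D) : ∀ p ∈ Dq D a, ∀ q ∈ Dq D a, ∃ g : Sd D a, g * p * g⁻¹ = q := by
  rintro _ ⟨p, hp, rfl⟩ _ ⟨q, hq, rfl⟩
  have h := S.std
  obtain ⟨g, hg, hgpq⟩ := RankThree.linked_inner h.grp h.prim h.wide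
    (Primitive.cores_central h.grp h.prim h.wide).1 ha hp.1 hq.1 hp.2.2 hq.2.2 hp.2.1 hq.2.1
  obtain ⟨k, hk, hk'⟩ := Factor.loc_conj h.grp hg _ hp
  refine ⟨QuotientGroup.mk ⟨k, hk⟩, ?_⟩
  rw [← QuotientGroup.mk_mul, ← QuotientGroup.mk_inv, ← QuotientGroup.mk_mul]
  exact congrArg _ (Subtype.ext (hk'.trans hgpq))

theorem Over23.hex : ∀ a ∈ D, Cfsg.pCore 2 (Sd D a) = ⊥ ∧ Nontrivial (Sd D a) := by
  intro a ha
  obtain ⟨-, _, ⟨p, hp, rfl⟩, _, ⟨q, hq, rfl⟩, hpq, -⟩ := id (S.loc a ha)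
  have hne1 : ∀ y ∈ Dl D a, y ∉ Subgroup.center ↥(Hd D a) := by
    intro y hy hyZ
    refine hpq ?_
    obtain ⟨g, hg⟩ := S.htrS ha _ ⟨y, hy, rfl⟩ _ ⟨p, hp, rfl⟩
    rw [← hg, (QuotientGroup.eq_one_iff y).2 hyZ, mul_one, mul_inv_cancel]
    exact Commute.one_left _
  exact ⟨(Factor.M23_core (grp_Dq S.std.grp hne1) (S.htrS ha) (S.loc a ha)).1,
    ⟨QuotientGroup.mk p, QuotientGroup.mk q, fun e => hpq (e ▸ Commute.refl _)⟩⟩

theorem Over23.sep {a : G} (ha : a ∈ D) : Sep D a :=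
  (GenA.Tower.core_at S.std.grp S.std.prim S.std.cent S.hex ha).2.2

theorem Over23.lgrp {a : G} (ha : a ∈ D) : Cfsg.IsThreeTranspositionGroup (Dq D a) :=
  GenA.Tower.local_grp S.std.grp S.std.prim S.std.cent S.hex ha

theorem Over23.lprim {a : G} (ha : a ∈ D) : Cfsg.IsPrimitiveUnderConj (Dq D a) :=
  GenA.Tower.local_prim S.std.grp S.std.prim S.std.cent S.hex
    (fun b hb => inner23 (S.lgrp hb) (S.htrS hb) (S.loc b hb)) ha

/-- The local quotient as a group over M(22). -/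
theorem Over23.below {a : G} (ha : a ∈ D) : Over22 (Dq D a) :=
  ⟨⟨S.lgrp ha, S.lprim ha, GenA.Tower.M23.exists_comm (S.lgrp ha) (S.lprim ha) (S.loc a ha), (S.loc a ha).1⟩,
    fun _ hb => local22 (S.lgrp ha) (S.lprim ha).1 (S.loc a ha) hb⟩

theorem Over23.ncard_nb {a : G} (ha : a ∈ D) : (nb D a).ncard = 31671 := by
  rw [← ncard_pr (S.sep ha) (subset_refl _), image_nb_pr,
    GenA.Tower.M23.ncard_class (S.lgrp ha) (S.lprim ha) (S.loc a ha)]

theorem Over23.ncard_one {a x : G} (ha : a ∈ D) (hx : x ∈ nb D a) : (nb D a ∩ nb D x).ncard = 3510 := by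
  rw [← ncard_pr (S.sep ha) Set.inter_subset_left, image_one S.std.grp (S.sep ha) hx,
    GenA.Tower.M23.ncard_nb (S.lgrp ha) (S.lprim ha) (S.loc a ha) (pr_mem hx)]

theorem Over23.ncard_adj {a x z : G} (ha : a ∈ D) (hx : x ∈ nb D a) (hz : z ∈ nb D a) (hne : x ≠ z)
    (hc : Commute x z) : (nb D a ∩ nb D x ∩ nb D z).ncard = 693 := by
  rw [← ncard_pr (S.sep ha) (Set.inter_subset_left.trans Set.inter_subset_left),
    image_two S.std.grp (S.sep ha) hx hz,
    GenA.Tower.M23.ncard_one (S.lgrp ha) (S.lprim ha) (S.loc a ha) (pr_mem hx)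
      ((GenA.Tower.pr_nb S.std.grp (S.sep ha) hx hz).2 ⟨hz.1, hne.symm, hc⟩)]

theorem Over23.ncard_cross {a x z : G} (ha : a ∈ D) (hx : x ∈ nb D a) (hz : z ∈ nb D a)
    (hc : ¬ Commute x z) : (nb D a ∩ nb D x ∩ nb D z).ncard = 351 := by
  rw [← ncard_pr (S.sep ha) (Set.inter_subset_left.trans Set.inter_subset_left),
    image_two S.std.grp (S.sep ha) hx hz,
    GenA.Tower.M23.ncard_inter (S.lgrp ha) (S.lprim ha) (S.loc a ha) (pr_mem hx) (pr_mem hz)
      fun h => hc ((pr_comm S.std.grp hx hz).1 h)]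

/-- What a common set looks like from one of its members. -/
theorem Over23.localOK {x c a : G} (hx : x ∈ D) (hc : c ∈ D) (hxc : ¬ Commute x c) (ha : a ∈ com D x c) :
    LocalOK (com (nb D a) x c) := by
  have hD := S.std.grp
  have haD : a ∈ D := ha.1.1
  have hxa : x ∈ nb D a := mem_nb_symm hx ha.1
  have hca : c ∈ nb D a := mem_nb_symm hc ha.2
  have hne : ¬ Commute (pr D a x) (pr D a c) := fun h => hxc ((pr_comm hD hxa hca).1 h)
  obtain ⟨y, hy⟩ := (S.below haD).std.com_nonempty (pr_mem hxa) (pr_mem hca) hne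
  refine localOK_of_pr hD (S.sep haD) (fun y hy => hy.1.1) ?_
  rw [image_com hD (S.sep haD) hxa hca]
  exact ((S.below haD).comp_eq_com (pr_mem hxa) (pr_mem hca) hne hy).1.localOK

/-- Non-commuting members have 3240 common neighbours. -/
theorem Over23.ncard_com {x c : G} (hx : x ∈ D) (hc : c ∈ D) (hxc : ¬ Commute x c) :
    (com D x c).ncard = 3240 := by
  classical
  have hD := S.std.grp
  have hprim := S.std.prim
  have hw := S.std.wide
  have hk : ∀ a ∈ D, (nb D a).ncard = 31671 := fun a ha => S.ncard_nb ha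
  have hl : ∀ a ∈ D, ∀ y ∈ nb D a, (nb D a ∩ nb D y).ncard = 3510 := fun a ha y hy => S.ncard_one ha hy
  obtain ⟨N, -, hNc, hS1, hS2⟩ := GenA.Tower.pair_moments hD hprim hw (k := 31671) (l := 3510) (d := 351)
    (e := 693) hk hl (fun a ha y hy z hz => S.ncard_adj ha hy hz)
    (fun a ha y hy z hz => S.ncard_cross ha hy hz) hx hc hxc
  have hprod := GenA.Tower.far_mul hD hprim hw (k := 31671) (l := 3510) hk hl hx hc hxc
  have hcs := sq_sum_le_card_mul_sum_sq (s := N)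
    (f := fun z => ((nb D x ∩ nb D c ∩ nb D z).ncard : ℤ))
  rw [hS1, hS2] at hcs
  have hpos := (Set.ncard_pos (Set.toFinite _)).2 (GenA.Tower.pair_nonempty hD hprim hw hx hc hxc)
  haveI : Fintype D := Fintype.ofFinite _
  have key := GenA.Tower.srg hD (n := D.ncard) (k := 31671) (l := 3510) (μ := (nb D x ∩ nb D c).ncard)
    hk hl (fun a' ha' c' hc' h' => GenA.Tower.pair_const hD hprim hw ha' hc' h' hx hc hxc) rfl
  have hn := GenA.Tower.ncard_D hD hx
  rw [hk x hx] at hn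
  show (nb D x ∩ nb D c).ncard = 3240
  generalize hs : (nb D x ∩ nb D c).ncard = s at hprod hNc hpos hcs key
  generalize hl' : (far D x).ncard = l at hprod hn
  have hN' : (N.card : ℤ) = 31671 - s := by omega
  rw [hN'] at hcs
  norm_num at hcs hprod
  have h2 : s ≤ 3240 := by
    by_contra hgt
    push Not at hgt
    have hs2 : (0 : ℤ) < (s : ℤ) ^ 2 := pow_pos (by exact_mod_cast hpos) 2
    have hlt : (351 : ℤ) * (31671 - s) < 3159 ^ 2 := by
      have : (3240 : ℤ) < s := by exact_mod_cast hgt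
      omega
    nlinarith [mul_lt_mul_of_pos_left hlt hs2]
  obtain ⟨j, hj⟩ := M22.Discr.discr_square _ key (by
      have hl0 : 0 < l := Nat.pos_of_ne_zero fun e => by rw [e] at hprod; omega
      omega) (by norm_num) (by omega) (by
    rw [hn]
    push_cast
    have : (0 : ℤ) ≤ ((31671 : ℤ) + l) * ((3510 : ℤ) - s) := mul_nonneg (by omega) (by omega)
    intro h0
    nlinarith [this, h0])
  exact GenA.Tower.M24.mu_cases hpos h2 ⟨l, by rw [← hprod, mul_comm]⟩ hj

theorem Over23.degree {x c : G} (hx : x ∈ D) (hc : c ∈ D) (hxc : ¬ Commute x c) {a p : G}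
    (ha : a ∈ com D x c) (hp : p ∈ comp (com D x c) a) :
    (nb (comp (com D x c) a) p).ncard = 351 := by
  have hpA := comp_subset ha hp
  rw [show nb (comp (com D x c) a) p = nb D p ∩ nb D x ∩ nb D c from Set.ext fun y => ?_]
  · exact S.ncard_cross hpA.1.1 (mem_nb_symm hx hpA.1) (mem_nb_symm hc hpA.2) hxc
  · constructor
    · intro h
      have hyA := comp_subset ha h.1
      exact ⟨⟨⟨hyA.1.1, h.2.1, h.2.2⟩, hyA.1⟩, hyA.2⟩
    · intro h
      exact ⟨comp_closed hp hpA ⟨h.1.2, h.2⟩ h.1.1.2.2, h.1.1.2.1, h.1.1.2.2⟩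

end Cfsg.Agent.Fischer.Big
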