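import Cfsg.Agent.Lib.Fischer.Graph.Counts
import Cfsg.Agent.Lib.Fischer.Local.Transfer
import Cfsg.Agent.GenA.Tower.Graph24
import Cfsg.Agent.Lib.Classical.QuadClass

/-!
Fischer's theorem: a listed space with the size of a common set of a large group is the orthogonal
one over three elements.
-/

set_option autoImplicit false
set_option linter.unusedSectionVars false

namespace Cfsg.Agent.Fischer

open Cfsg.Agent.ThreeTransp.Factor (nb)
open Cfsg.Agent.Fischer.Counts
open Cfsg.Agent.Forms.PlusStd (plusQ)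

universe u

variable {G : Type u} [Group G] {E : Set G} {P : Type}

theorem GIso.ncard {R : P → P → Prop} (e : GIso E R) : E.ncard = Nat.card P := by
  obtain ⟨φ, -⟩ := e
  rw [← Nat.card_coe_set_eq, Nat.card_congr φ]

theorem ncard_nb_graph {R : P → P → Prop} {φ : E ≃ P}
    (hφ : ∀ a b : E, Commute (a : G) (b : G) ↔ R (φ a) (φ b)) (a : E) :
    (nb E (a : G)).ncard = {t : P | t ≠ φ a ∧ R (φ a) t}.ncard := by
  have h : nb E (a : G) = (fun t => ((φ.symm t : E) : G)) '' {t : P | t ≠ φ a ∧ R (φ a) t} := by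
    ext y
    constructor
    · intro hy
      refine ⟨φ ⟨y, hy.1⟩, ⟨fun k => hy.2.1 ?_, (hφ _ _).1 hy.2.2⟩, by simp⟩
      exact congrArg Subtype.val (φ.injective k)
    · rintro ⟨t, ⟨ht, hR⟩, rfl⟩
      refine ⟨(φ.symm t).2, fun k => ht ?_, (hφ _ _).2 (by rwa [φ.apply_symm_apply])⟩
      rw [← φ.apply_symm_apply t, show φ.symm t = a from Subtype.ext k]
  rw [h]
  exact Set.ncard_image_of_injective _ (Subtype.val_injective.comp φ.symm.injective)

theorem GIso.degree_sym {n : ℕ} (e : GIso E (symR n)) {a : G} (ha : a ∈ E) :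
    2 * (nb E a).ncard = (n - 2) * (n - 3) := by
  obtain ⟨φ, hφ⟩ := e
  rw [show a = ((⟨a, ha⟩ : E) : G) from rfl, ncard_nb_graph hφ, two_degree_sym]

variable [Finite G]

/-- The sizes that can only be orthogonal over three elements. -/
def Special (E : Set G) : Prop :=
  E.ncard = 126 ∨ (E.ncard = 351 ∧ ∀ a ∈ E, (nb E a).ncard = 126) ∨ E.ncard = 360 ∨ E.ncard = 1080 ∨
    (E.ncard = 3240 ∧ ∀ a ∈ E, (nb E a).ncard = 351)

theorem Space.special (h : Space E) (ht : Types E) (hs : Special E) :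
    ∃ n : ℕ, 5 ≤ n ∧ ∃ Q : QuadraticForm (ZMod 3) (Fin n → ZMod 3),
      (QuadraticMap.polarBilin Q).Nondegenerate ∧ GIso E (o3R Q) := by
  have hN : E.ncard = 126 ∨ E.ncard = 351 ∨ E.ncard = 360 ∨ E.ncard = 1080 ∨ E.ncard = 3240 := by
    rcases hs with h | ⟨h, -⟩ | h | h | ⟨h, -⟩ <;> omega
  have hq := h.quot
  cases ht with
  | sym n hn e =>
    exfalso
    have h2 := two_card_sym n
    rw [← e.ncard] at h2
    have hlt : n ≤ 81 := by
      by_contra hc
      push Not at hc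
      have : 82 * 81 ≤ n * (n - 1) := Nat.mul_le_mul (by omega) (by omega)
      omega
    obtain ⟨a, ha, -⟩ := h.wide
    have hdeg := e.degree_sym ha
    have key : ∀ n < 82, 5 ≤ n → n * (n - 1) ∈ [252, 702, 720, 2160, 6480] →
        n = 27 ∧ (n - 2) * (n - 3) = 600 ∨ n = 81 ∧ (n - 2) * (n - 3) = 6162 := by decide +kernel
    have hm : n * (n - 1) ∈ [252, 702, 720, 2160, 6480] := by
      simp only [List.mem_cons, List.not_mem_nil, or_false]; omega
    rcases key n (by omega) hn hm with ⟨rfl, hd⟩ | ⟨rfl, hd⟩ <;>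
      rcases hs with h' | ⟨h', hk⟩ | h' | h' | ⟨h', hk⟩ <;> (try omega) <;>
      (have := hk a ha; omega)
  | sp m hm e =>
    exfalso
    have h2 := card_sp m
    rw [← e.ncard] at h2
    have hlt : m < 6 := by
      by_contra hc
      push Not at hc
      have : 4 ^ 6 ≤ 4 ^ m := Nat.pow_le_pow_right (by norm_num) hc
      omega
    interval_cases m <;> omega
  | unit n hn e =>
    exfalso
    have h2 := three_card_unit (n := n) (by omega)
    rw [← e.ncard] at h2
    have hlt : n < 8 := by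
      by_contra hc
      push Not at hc
      have h1 : 2 ^ 8 ≤ 2 ^ n := Nat.pow_le_pow_right (by norm_num) hc
      have h3 : 2 ^ 7 ≤ 2 ^ (n - 1) := Nat.pow_le_pow_right (by norm_num) (by omega)
      have : (2 ^ 8 - 1) * (2 ^ 7 - 1) ≤ 3 * E.ncard := by
        rw [h2]
        split_ifs <;> exact Nat.mul_le_mul (by omega) (by omega)
      omega
    interval_cases n <;> norm_num [Nat.even_iff] at h2 <;> omega
  | o2p m hm e =>
    exfalso
    have h2 := two_card_o2p m
    rw [← e.ncard] at h2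
    have hlt : m < 7 := by
      by_contra hc
      push Not at hc
      have h1 : 2 ^ 7 ≤ 2 ^ m := Nat.pow_le_pow_right (by norm_num) hc
      have h3 : (4 : ℕ) ^ m = 2 ^ m * 2 ^ m := by rw [← mul_pow]; rfl
      have h4 : 128 * 2 ^ m ≤ 2 ^ m * 2 ^ m := Nat.mul_le_mul_right _ h1
      generalize 4 ^ m = A at h2 h3
      generalize 2 ^ m = B at h1 h2 h3
      have : 128 * 127 ≤ 2 * E.ncard := by nlinarith
      omega
    interval_cases m <;> omega
  | o2m m hm e =>
    exfalso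
    have h2 := two_card_o2m m
    rw [← e.ncard] at h2
    have hlt : m < 7 := by
      by_contra hc
      push Not at hc
      have h1 : 2 ^ 16 ≤ 2 ^ (2 * m + 2) := Nat.pow_le_pow_right (by norm_num) (by omega)
      generalize 2 ^ (2 * m + 2) = A at h1 h2
      generalize 2 ^ (m + 1) = B at h2
      omega
    interval_cases m <;> omega
  | o3 n hn Q hQ e => exact ⟨n, hn, Q, hQ, e⟩
  | m22 k =>
    exfalso
    have := ThreeTransp.M22.ncard_class hq.grp hq.prim k
    rw [h.ncard_img] at this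
    omega
  | m23 k =>
    exfalso
    have := GenA.Tower.M23.ncard_class hq.grp hq.prim k
    rw [h.ncard_img] at this
    omega
  | m24 k =>
    exfalso
    have := GenA.Tower.M24.ncard_class hq.grp hq.prim k
    rw [h.ncard_img] at this
    omega

theorem lists_small : ∀ n ∈ [5, 6, 7, 8], ∀ l ∈ lists n,
    sel (tri l) 1 ∈ [252, 702, 720, 2160, 6480] →
      n = 6 ∧ sel (tri l) 1 = 252 ∧ (l.map fun a => 2 * a).prod = 1 ∨
      n = 7 ∧ sel (tri l) 1 = 702 ∧ (l.map fun a => 2 * a).prod = -1 ∨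
      n = 8 ∧ sel (tri l) 1 = 2160 := by decide +kernel

theorem lists_nine : ∀ l ∈ lists 9, sel (tri l) 1 ∈ [252, 702, 720, 2160, 6480] →
    sel (tri l) 1 = 6480 := by decide +kernel

/-- What the size determines. -/
theorem Space.special_cases (h : Space E) (ht : Types E) (hs : Special E) :
    (E.ncard = 126 ∧ ∃ Q : QuadraticForm (ZMod 3) (Fin 6 → ZMod 3),
      (QuadraticMap.polarBilin Q).Nondegenerate ∧ Cfsg.polarGramDet (⇑Q) = 1 ∧ GIso E (o3R Q)) ∨
    (E.ncard = 351 ∧ ∃ Q : QuadraticForm (ZMod 3) (Fin 7 → ZMod 3),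
      (QuadraticMap.polarBilin Q).Nondegenerate ∧ Cfsg.polarGramDet (⇑Q) = -1 ∧ GIso E (o3R Q)) ∨
    (E.ncard = 1080 ∧ ∃ Q : QuadraticForm (ZMod 3) (Fin 8 → ZMod 3),
      (QuadraticMap.polarBilin Q).Nondegenerate ∧ GIso E (o3R Q) ∧
      ∃ e : (Fin 8 → ZMod 3) ≃ₗ[ZMod 3] (Fin 4 ⊕ Fin 4 → ZMod 3),
        ∀ x, plusQ (ZMod 3) 4 (e x) = Q x) := by
  obtain ⟨n, hn, Q, hQ, g⟩ := h.special ht hs
  obtain ⟨w, e, hw, he, hd⟩ := exists_shape hQ
  have h2 : sel (tri (List.ofFn w)) 1 = 2 * E.ncard := by rw [← card_o3 he, g.ncard]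
  have hN : E.ncard = 126 ∨ E.ncard = 351 ∨ E.ncard = 360 ∨ E.ncard = 1080 ∨ E.ncard = 3240 := by
    rcases hs with h | ⟨h, -⟩ | h | h | ⟨h, -⟩ <;> omega
  have hmem : sel (tri (List.ofFn w)) 1 ∈ [252, 702, 720, 2160, 6480] := by
    simp only [List.mem_cons, List.not_mem_nil, or_false]; omega
  by_cases h9 : n < 9
  · rcases lists_small n (by simp only [List.mem_cons, List.not_mem_nil, or_false]; omega) _ (mem_lists hw) hmem with ⟨rfl, hv, hp⟩ | ⟨rfl, hv, hp⟩ | ⟨rfl, hv⟩
    · exact Or.inl ⟨by omega, Q, hQ, hd.trans hp, g⟩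
    · exact Or.inr (Or.inl ⟨by omega, Q, hQ, hd.trans hp, g⟩)
    · refine Or.inr (Or.inr ⟨by omega, Q, hQ, g, ?_⟩)
      rcases Classical.QuadClass.classify_even 4 (V := Fin 8 → ZMod 3) (by simp) Q hQ with
        h' | ⟨-, ζ, e', hζ, he'⟩
      · exact h'
      · exfalso
        have hz : ∀ ζ : ZMod 3, (∀ t : ZMod 3, t ^ 2 + t + ζ ≠ 0) → ∀ z₁ z₂ : ZMod 3,
            z₁ ^ 2 + 1 * z₁ * z₂ + ζ * z₂ ^ 2 = 0 → z₁ = 0 ∧ z₂ = 0 := by decide
        have h3 := Classical.OrthMinIndex.vals_min_eq (F := ZMod 3) (q := 3) (ZMod.card 3) 3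
          (hz ζ hζ) (c := 1) one_ne_zero
        rw [Classical.OrthMinIndex.vals, Nat.card_congr (e'.toEquiv.subtypeEquiv
          (p := fun x => Q x = 1) (q := fun y => Classical.OrthForms.minQ (ZMod 3) 3 1 ζ y = 1)
          fun x => by rw [← he']; rfl).symm, ← two_card_o3, ← g.ncard] at h3
        omega
  obtain rfl | h10 : n = 9 ∨ 10 ≤ n := by omega
  · exfalso
    have h6 := lists_nine _ (mem_lists hw) hmem
    obtain ⟨s, hs'⟩ := exists_degree_nine hw he
    obtain ⟨φ, hφ⟩ := g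
    have hk := ncard_nb_graph hφ (φ.symm s)
    rw [φ.apply_symm_apply] at hk
    rcases hs with h' | ⟨h', -⟩ | h' | h' | ⟨h', hk'⟩ <;> (try omega)
    have := hk' _ (φ.symm s).2
    omega
  · exfalso
    obtain ⟨m, rfl⟩ : ∃ m, n = 10 + m := ⟨n - 10, by omega⟩
    have := big _ (mem_lists hw) 1
    omega

end Cfsg.Agent.Fischer
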