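import Cfsg.Agent.Lib.Fischer.Unit.Big
import Cfsg.Agent.Lib.ThreeTransp.M22Iso.Coord
import Cfsg.Agent.GenA.Tower.Facts23

/-!
Fischer's theorem: a common set in a group of type M(22) is a space, and what that gives above it.
-/

set_option autoImplicit false
set_option linter.unusedSectionVars false

namespace Cfsg.Agent.Fischer.Big

open Cfsg.Agent.InvChar.Coset (FF)
open Cfsg.Agent.ThreeTransp
open Cfsg.Agent.ThreeTransp.Factor (nb Hd Sd Dq mem_Hd Sep)
open Cfsg.Agent.GenA.Tower (pr pr_mem pr_mk pr_mul pr_inv pr_inj pr_comm pr_nb image_two)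

universe u

variable {G : Type u} [Group G] [Finite G] {D : Set G}

/-- A group of type M(22) has unitary local graphs. -/
theorem giso22 (hD : Cfsg.IsThreeTranspositionGroup D) (h22 : Cfsg.IsOfTypeM22 G D) {a : G} (ha : a ∈ D) :
    GIso (nb D a) (uR 6) := by
  obtain ⟨C⟩ := M22Iso.exists_coord hD h22 ha
  have hv : ∀ y, ∃ v : Fin 6 → FF, y ∈ nb D a → M22Iso.Pt v ∧ C.f v = y := fun y => by
    by_cases hy : y ∈ nb D a
    · obtain ⟨v, hv⟩ := C.cover y hy
      exact ⟨v, fun _ => hv⟩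
    · exact ⟨0, fun h => absurd h hy⟩
  choose v hv using hv
  let M : Unit.Mod (nb D a) 6 :=
  { v := v
    ne := fun h => (hv _ h).1.1
    iso := fun h => (hv _ h).1.2
    comm := fun {p q} hp hq => by
      rw [← C.comm_iff _ _ (hv _ hp).1 (hv _ hq).1, (hv _ hp).2, (hv _ hq).2]
    inj := fun {p q} hp hq c e => by
      rw [← (hv _ hp).2, ← (hv _ hq).2]
      exact (C.eq_iff _ _ (hv _ hp).1 (hv _ hq).1).2 ⟨c, e⟩
    surj := fun w hw0 hw => by
      have hp : M22Iso.Pt w := ⟨hw0, hw⟩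
      have hm := C.mem w hp
      obtain ⟨c, hc⟩ := (C.eq_iff w (v (C.f w)) hp (hv _ hm).1).1 (hv _ hm).2.symm
      exact ⟨C.f w, hm, c, fun e => (hv _ hm).1.1 (by rw [hc, e, zero_smul]), hc⟩ }
  exact M.giso

/-- A common set in a group of type M(22) is a space. -/
theorem space22 (hD : Cfsg.IsThreeTranspositionGroup D) (hprim : Cfsg.IsPrimitiveUnderConj D)
    (h22 : Cfsg.IsOfTypeM22 G D) {a c : G} (ha : a ∈ D) (hc : c ∈ D) (hac : ¬ Commute a c) :
    Space (com D a c) := by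
  have hs : Std D := ⟨hD, hprim, M22.exists_commuting hD hprim h22, h22.1⟩
  have g := giso22 hD h22 ha
  obtain ⟨p, hp⟩ := hs.com_nonempty ha hc hac
  have h1 := (Unit.step (m := 4) hs ha g le_rfl hc hac hp).1
  rwa [((Unit.six_count hs ha g).2.2 c hc hac p hp).2] at h1

/-- Preimages of what the images generate. -/
theorem exists_lift {a : G} {L : Set G} (hL : L ⊆ nb D a) :
    ∀ g ∈ Subgroup.closure (pr D a '' L), ∃ k ∈ Subgroup.closure L, pr D a k = g := by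
  have hle : Subgroup.closure L ≤ Hd D a := Subgroup.closure_mono hL
  intro g hg
  induction hg using Subgroup.closure_induction with
  | mem y hy =>
    obtain ⟨k, hk, rfl⟩ := hy
    exact ⟨k, Subgroup.subset_closure hk, rfl⟩
  | one => exact ⟨1, one_mem _, by rw [pr_mk (one_mem _)]; rfl⟩
  | mul p q _ _ hp hq =>
    obtain ⟨k, hk, rfl⟩ := hp
    obtain ⟨l, hl, rfl⟩ := hq
    exact ⟨k * l, mul_mem hk hl, pr_mul (hle hk) (hle hl)⟩
  | inv p _ hp =>
    obtain ⟨k, hk, rfl⟩ := hp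
    exact ⟨k⁻¹, inv_mem hk, pr_inv (hle hk)⟩

/-- What is asked of a common set is read in the local quotient. -/
theorem localOK_of_pr (hD : Cfsg.IsThreeTranspositionGroup D) {a : G} (hsep : Sep D a) {L : Set G}
    (hL : L ⊆ nb D a) (h : LocalOK (pr D a '' L)) : LocalOK L := by
  have hnb : ∀ p ∈ L, nb (pr D a '' L) (pr D a p) = pr D a '' nb L p := fun p hp => by
    ext z
    constructor
    · rintro ⟨⟨y, hy, rfl⟩, hne, hc⟩
      exact ⟨y, ⟨hy, fun e => hne (by rw [e]), (pr_comm hD (hL hp) (hL hy)).1 hc⟩, rfl⟩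
    · rintro ⟨y, ⟨hy, hne, hc⟩, rfl⟩
      exact ⟨⟨y, hy, rfl⟩, fun e => hne (pr_inj hsep (hL hy) (hL hp) e),
        (pr_comm hD (hL hp) (hL hy)).2 hc⟩
  refine ⟨fun p hp q hq => ?_, fun p hp => ?_, fun p hp => ?_, h.nonempty.of_image, fun p hp q hq e => ?_⟩
  · obtain ⟨g, hg, e⟩ := h.trans _ ⟨p, hp, rfl⟩ _ ⟨q, hq, rfl⟩
    obtain ⟨k, hk, rfl⟩ := exists_lift hL g hg
    have hkH : k ∈ Hd D a := Subgroup.closure_mono hL hk
    refine ⟨k, hk, pr_inj hsep (GenA.Tower.conj_fix_nb hD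
      (RankThree.conj_self_of_commute (Factor.Hd_commute hkH)) (hL hp)) (hL hq) ?_⟩
    rw [pr_mul (mul_mem hkH (mem_Hd (hL hp))) (inv_mem hkH), pr_mul hkH (mem_Hd (hL hp)), pr_inv hkH]
    exact e
  · obtain ⟨_, ⟨q, hq, rfl⟩, hc⟩ := h.noncomm _ ⟨p, hp, rfl⟩
    exact ⟨q, hq, fun k => hc ((pr_comm hD (hL hp) (hL hq)).2 k)⟩
  · obtain ⟨_, ⟨q, hq, rfl⟩, hne, hc⟩ := h.wide _ ⟨p, hp, rfl⟩
    exact ⟨q, hq, fun k => hne (by rw [k]), (pr_comm hD (hL hp) (hL hq)).1 hc⟩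
  · exact pr_inj hsep (hL hp) (hL hq) (h.psep _ ⟨p, hp, rfl⟩ _ ⟨q, hq, rfl⟩ (by
      rw [hnb p hp, hnb q hq, e]))

/-- A common set seen from one of its members. -/
theorem image_com (hD : Cfsg.IsThreeTranspositionGroup D) {a x z : G} (hsep : Sep D a)
    (hx : x ∈ nb D a) (hz : z ∈ nb D a) :
    pr D a '' com (nb D a) x z = com (Dq D a) (pr D a x) (pr D a z) := by
  rw [com, nb_nb, nb_nb, show nb D a ∩ nb D x ∩ (nb D a ∩ nb D z) = nb D a ∩ nb D x ∩ nb D z by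
    ext; simp only [Set.mem_inter_iff]; tauto]
  exact image_two hD hsep hx hz

end Cfsg.Agent.Fischer.Big
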