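import Cfsg.Agent.Lib.Fischer.Big.Facts22
import Cfsg.Agent.Lib.Fischer.Big.Ident
import Cfsg.Agent.Lib.Fischer.Graph.Conclusion

/-!
Fischer's theorem: over M(22) there is only M(23).
-/

set_option autoImplicit false
set_option linter.unusedSectionVars false

namespace Cfsg.Agent.Fischer

open Cfsg.Agent.ThreeTransp.Factor (nb)

universe u

/-- The group itself is listed with its quotient. -/
theorem img_eq {G : Type u} [Group G] {D : Set G} {f : Quot D ≃* G} (hf : f '' img D = D) :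
    f.symm '' D = img D :=
  (congrArg (fun S => f.symm '' S) hf).symm.trans (by simp [Set.image_image])

theorem row_m22 {G : Type u} [Group G] [Finite G] {D : Set G} {x : G} (hD : Std D) (hx : x ∈ D)
    (hB : Below.{u} D.ncard) (hE : Cfsg.IsOfTypeM22 (Quot (nb D x)) (img (nb D x))) : Types D := by
  have S := Big.over22 hD hx hE
  obtain ⟨c, hc, hxc⟩ := hD.exists_noncomm hx
  obtain ⟨a, ha⟩ := hD.com_nonempty hx hc hxc
  obtain ⟨hA, hdeg⟩ := S.comp_eq_com hx hc hxc ha
  have hn := S.ncard_com hx hc hxc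
  have hlt : (com D x c).ncard < D.ncard := by
    have := Set.ncard_le_ncard (show nb D x ⊆ D from fun y hy => hy.1) (Set.toFinite _)
    rw [S.ncard_nb hx] at this
    omega
  rcases hA.special_cases (hA.types hB hlt) (Or.inr (Or.inl ⟨hn, hdeg⟩)) with
    ⟨h, -⟩ | ⟨-, Q, hQ, hdet, hQE⟩ | ⟨h, -⟩
  · omega
  · obtain ⟨e, he⟩ := hA.exists_equiv
    obtain ⟨ψ, -⟩ := GIso.o3_iso hA.img_group hA.quot_center (n := 7) (by norm_num) hQ
      (hQE.comp e.symm fun p q => by rw [← he, e.apply_symm_apply, e.apply_symm_apply])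
    have h23 : Cfsg.IsOfTypeM23 G D := ⟨hD.cent, x, hx, c, hc, hxc, hE, 1, one_ne_zero, Q, hQ, hdet, ⟨ψ⟩⟩
    obtain ⟨f, hf⟩ := exists_quot_self hD.grp hD.cent
    exact .m23 (img_eq hf ▸ GenA.Tower.type23 f.symm D h23)
  · omega

end Cfsg.Agent.Fischer
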