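import Cfsg.Agent.Lib.Fischer.Big.Piece
import Cfsg.Agent.Lib.Fischer.Local.Comp

/-!
Fischer's theorem: three components with the orthogonal group of plus type in dimension eight give
that group extended by the permutations of the components.
-/

set_option autoImplicit false
set_option linter.unusedSectionVars false

namespace Cfsg.Agent.Fischer

open scoped commutatorElement
open Cfsg.Agent.ThreeTransp

universe u

variable {G : Type u} [Group G] [Finite G]

/-- Three commuting components, each of plus type in dimension eight. -/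
structure Three (A : Set G) : Prop where
  tt : Cfsg.IsThreeTranspositionSet A
  conj : ∀ a ∈ A, ∀ b ∈ A, a * b * a⁻¹ ∈ A
  card : (comp A '' A).ncard = 3
  piece : ∀ a ∈ A, Piece (comp A a)

/-- A permutation of three letters fixing one and moving the others. -/
theorem perm_three : ∀ (i : Fin 3) (σ : Equiv.Perm (Fin 3)), σ i = i → (∀ j, j ≠ i → σ j ≠ j) →
    σ = Equiv.swap (i + 1) (i + 2) := by decide +kernel

variable {A : Set G} (T : Three A)
include T

/-- A member as an element of the generated group. -/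
def mem_el (_ : Three A) (a : A) : ↥(Subgroup.closure A) := ⟨a, Subgroup.subset_closure a.2⟩

/-- The action on the components. -/
theorem Three.exists_act :
    ∃ (lab : A → Fin 3) (ρ : ↥(Subgroup.closure A) →* Equiv.Perm (Fin 3)),
      Function.Surjective lab ∧ (∀ a b : A, lab a = lab b ↔ (b : G) ∈ comp A a) ∧
      (∀ (g : ↥(Subgroup.closure A)) (a : A),
        ρ g (lab a) = lab ⟨(g : G) * a * (g : G)⁻¹, conj_of_mem_closure T.conj g.2 a a.2⟩) ∧
      ∀ y : A, ρ (mem_el T y) = Equiv.swap (lab y + 1) (lab y + 2) := by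
  classical
  let act : ↥(Subgroup.closure A) → ↥(comp A '' A) → ↥(comp A '' A) := fun g K =>
    ⟨MulAut.conj (g : G) '' K.1, by
      obtain ⟨a, ha, e⟩ := K.2
      exact ⟨_, conj_of_mem_closure T.conj g.2 a ha, (comp_map T.conj g.2 a).symm.trans (by rw [e])⟩⟩
  let π : ↥(Subgroup.closure A) →* Equiv.Perm ↥(comp A '' A) :=
  { toFun := fun g => ⟨act g, act g⁻¹, fun K => Subtype.ext (by simp [act, Set.image_image, mul_assoc]),
      fun K => Subtype.ext (by simp [act, Set.image_image, mul_assoc])⟩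
    map_one' := Equiv.ext fun K => Subtype.ext (by simp [act])
    map_mul' := fun g k => Equiv.ext fun K => Subtype.ext (by simp [act, Set.image_image, mul_assoc]) }
  let σ : ↥(comp A '' A) ≃ Fin 3 :=
    Finite.equivFinOfCardEq (by rw [Nat.card_coe_set_eq, T.card])
  obtain ⟨lab, hlab⟩ : ∃ lab : A → Fin 3, ∀ a : A, lab a = σ ⟨comp A a, _, a.2, rfl⟩ := ⟨_, fun _ => rfl⟩
  obtain ⟨ρ, hρ⟩ : ∃ ρ : ↥(Subgroup.closure A) →* Equiv.Perm (Fin 3),
      ∀ g i, ρ g i = σ (act g (σ.symm i)) :=
    ⟨σ.permCongrHom.toMonoidHom.comp π, fun g i => rfl⟩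
  have hmove : ∀ (g : ↥(Subgroup.closure A)) (a : A),
      ρ g (lab a) = lab ⟨(g : G) * a * (g : G)⁻¹, conj_of_mem_closure T.conj g.2 a a.2⟩ := by
    intro g a
    rw [hρ, hlab, hlab, σ.symm_apply_apply]
    exact congrArg σ (Subtype.ext (comp_map T.conj g.2 a))
  have hsurj : Function.Surjective lab := fun i => by
    obtain ⟨a, ha, e⟩ := (σ.symm i).2
    refine ⟨⟨a, ha⟩, ?_⟩
    rw [hlab, ← σ.apply_symm_apply i]
    exact congrArg σ (Subtype.ext e)
  have hiff : ∀ a b : A, lab a = lab b ↔ (b : G) ∈ comp A a := fun a b => by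
    rw [hlab, hlab, σ.injective.eq_iff, Subtype.ext_iff]
    exact ⟨fun e => (congrArg (fun K => (b : G) ∈ K) (show comp A (a : G) = comp A (b : G) from e)).mpr (mem_comp_self _), fun h => (comp_eq h).symm⟩
  refine ⟨lab, ρ, hsurj, hiff, hmove, fun y => perm_three _ _ ?_ ?_⟩
  · rw [hmove]
    congr 1
    exact Subtype.ext (mul_inv_cancel_right _ _)
  · intro j hj e
    obtain ⟨a, rfl⟩ := hsurj j
    rw [hmove, eq_comm, hiff] at e
    exact hj ((hiff a y).2 (mem_of_comp_fix T.tt T.conj a.2 y.2 (comp_eq e)))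

/-- The shape of the group generated by the three components, modulo its centre. -/
theorem Three.shape : ∃ (N : Subgroup (Quot A)) (_ : N.Normal),
    Nonempty (N ≃* Cfsg.POmega (ZMod 3) (Cfsg.quadFormPlus 4 (ZMod 3))) ∧
      Nonempty (Quot A ⧸ N ≃* Equiv.Perm (Fin 3)) := by
  classical
  set L := Subgroup.closure A with hL
  obtain ⟨lab, ρ, hsurj, hiff, hmove, hswap⟩ := T.exists_act
  choose r hr using hsurj
  let C : Fin 3 → Set G := fun i => comp A (r i : G)
  have hCA : ∀ i, C i ⊆ A := fun i => comp_subset (r i).2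
  have hS : ∀ i, Piece (C i) := fun i => T.piece _ (r i).2
  have hKL : ∀ i, Subgroup.closure (C i) ≤ L := fun i => Subgroup.closure_mono (hCA i)
  have hPL : ∀ i, der (C i) ≤ L := fun i => (der_le _).trans (hKL i)
  have hC : ∀ a : A, comp A (a : G) = C (lab a) := fun a =>
    comp_eq ((hiff (r (lab a)) a).1 (hr _))
  have hCmove : ∀ (g : ↥L) i, MulAut.conj (g : G) '' C i = C (ρ g i) := by
    intro g i
    conv_rhs => rw [← hr i, hmove, ← hC]
    exact comp_map T.conj g.2 _
  have hPmove : ∀ (g : ↥L) i, (der (C i)).map (MulAut.conj (g : G)).toMonoidHom = der (C (ρ g i)) := by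
    intro g i
    rw [der, Subgroup.map_commutator, MonoidHom.map_closure, MulEquiv.coe_toMonoidHom, hCmove]
    rfl
  -- the derived groups fix every component
  have hfix : ∀ i (p : ↥L), (p : G) ∈ der (C i) → ρ p = 1 := by
    intro i p hp
    let f : ↥(Subgroup.closure (C i)) →* Equiv.Perm (Fin 3) := ρ.comp (Subgroup.inclusion (hKL i))
    have hval : ∀ g : ↥(Subgroup.closure (C i)), f g ∈ Subgroup.zpowers (Equiv.swap (i + 1) (i + 2)) := by
      rintro ⟨g, hg⟩
      induction hg using Subgroup.closure_induction with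
      | mem y hy =>
        have e : lab ⟨y, hCA i hy⟩ = i := ((hiff (r i) ⟨y, hCA i hy⟩).2 hy).symm.trans (hr i)
        refine ⟨1, ?_⟩
        show Equiv.swap (i + 1) (i + 2) ^ (1 : ℤ) = ρ (mem_el T ⟨y, hCA i hy⟩)
        rw [zpow_one, hswap, e]
      | one => exact (map_one f).symm ▸ one_mem _
      | mul a b ha hb h1 h2 =>
        rw [show (⟨a * b, _⟩ : ↥(Subgroup.closure (C i))) = ⟨a, ha⟩ * ⟨b, hb⟩ from rfl, map_mul]
        exact mul_mem h1 h2
      | inv a ha h1 =>
        rw [show (⟨a⁻¹, _⟩ : ↥(Subgroup.closure (C i))) = ⟨a, ha⟩⁻¹ from rfl, map_inv]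
        exact inv_mem h1
    have hle : commutator ↥(Subgroup.closure (C i)) ≤ f.ker := by
      rw [commutator_def, Subgroup.commutator_le]
      intro a _ b _
      rw [MonoidHom.mem_ker, map_commutatorElement, commutatorElement_eq_one_iff_mul_comm]
      obtain ⟨k, hk⟩ := hval a
      obtain ⟨l, hl⟩ := hval b
      rw [← hk, ← hl]
      exact (Commute.zpow_zpow_self _ k l).eq
    have hm : (⟨(p : G), der_le _ hp⟩ : ↥(Subgroup.closure (C i))) ∈ commutator ↥(Subgroup.closure (C i)) := by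
      rw [← Subgroup.mem_map_iff_mem (Subgroup.subtype_injective _), Subgroup.map_subtype_commutator]
      exact hp
    exact hle hm
  have hnormP : ∀ i j, ∀ p ∈ der (C i), ∀ q ∈ der (C j), p * q * p⁻¹ ∈ der (C j) := by
    intro i j p hp q hq
    have h := hPmove ⟨p, hPL i hp⟩ j
    rw [hfix i _ hp] at h
    exact h.le ⟨q, hq, rfl⟩
  -- commuting derived groups centralise the other component
  have hcent : ∀ i j, (∀ p ∈ der (C i), ∀ q ∈ der (C j), Commute p q) →
      ∀ p ∈ der (C i), ∀ b ∈ C j, p * b * p⁻¹ = b := by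
    intro i j hc p hp b hb
    have hb' : p * b * p⁻¹ ∈ C j := by
      have h := hCmove ⟨p, hPL i hp⟩ j
      rw [hfix i _ hp] at h
      exact h.le ⟨b, hb, rfl⟩
    refine (hS j).fix hb' hb fun q hq => ?_
    have hbq : b * q * b ∈ der (C j) := by
      have h := hPmove (mem_el T ⟨b, hCA j hb⟩) j
      rw [hswap, ((hiff (r j) ⟨b, hCA j hb⟩).2 hb).symm.trans (hr j),
        (by decide : ∀ j : Fin 3, Equiv.swap (j + 1) (j + 2) j = j) j] at h
      have := h.le ⟨q, hq, rfl⟩
      rwa [show ((MulAut.conj (mem_el T ⟨b, hCA j hb⟩ : G)).toMonoidHom) q = b * q * b⁻¹ from rfl,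
        Basic.inv_eq T.tt (hCA j hb)] at this
    have e : p * b * p⁻¹ * q * (p * b * p⁻¹) = b * q * b := by
      calc p * b * p⁻¹ * q * (p * b * p⁻¹) = p * b * (p⁻¹ * q * p) * b * p⁻¹ := by group
        _ = p * (b * q * b) * p⁻¹ := by
          rw [show p⁻¹ * q * p = q by rw [mul_assoc, ← (hc p hp q hq).eq, inv_mul_cancel_left]]
          group
        _ = b * q * b := by rw [(hc p hp _ hbq).eq, mul_inv_cancel_right]
    generalize hu : p * b * p⁻¹ = u at e hb'
    have hu2 := Basic.sq T.tt (hCA j hb')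
    have hb2 := Basic.sq T.tt (hCA j hb)
    show u * b * q = q * (u * b)
    calc u * b * q = u * (b * q * b) * b := by simp [mul_assoc, hb2]
      _ = u * (u * q * u) * b := by rw [e]
      _ = q * (u * b) := by simp [← mul_assoc, hu2]
  have hpair : ∀ i j, i ≠ j → der (C i) = der (C j) := by
    intro i j hij
    obtain ⟨R, hR⟩ : ∃ R : Subgroup G, R = der (C i) ⊓ der (C j) := ⟨_, rfl⟩
    have hRi : ∀ p ∈ der (C i), ∀ x ∈ R, p * x * p⁻¹ ∈ R := fun p hp x hx => by
      subst hR; exact ⟨hnormP i i p hp x hx.1, hnormP i j p hp x hx.2⟩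
    have hRj : ∀ p ∈ der (C j), ∀ x ∈ R, p * x * p⁻¹ ∈ R := fun p hp x hx => by
      subst hR; exact ⟨hnormP j i p hp x hx.1, hnormP j j p hp x hx.2⟩
    rcases (hS i).dichotomy (hR ▸ inf_le_left) hRi with hcen | hall
    · -- then the two derived groups commute
      have hcom : ⁅der (C i), der (C j)⁆ ≤ R := by
        subst hR
        rw [Subgroup.commutator_le]
        intro p hp q hq
        rw [commutatorElement_def]
        refine Subgroup.mem_inf.2 ⟨?_, mul_mem (hnormP i j p hp q hq) (inv_mem hq)⟩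
        rw [mul_assoc p q, mul_assoc]
        exact mul_mem hp (hnormP j i q hq (p⁻¹) (inv_mem hp))
      have hz : ⁅⁅der (C i), der (C j)⁆, der (C i)⁆ = ⊥ :=
        Subgroup.commutator_eq_bot_iff_le_centralizer.2 fun x hx => Subgroup.mem_centralizer_iff.2
          fun p hp => (hcen x (hcom hx) p (der_le _ hp)).eq.symm
      have h0 : ⁅⁅der (C i), der (C i)⁆, der (C j)⁆ = ⊥ :=
        Subgroup.commutator_commutator_eq_bot_of_rotate hz (by rwa [Subgroup.commutator_comm (der (C j))])
      rw [(hS i).perfect, Subgroup.commutator_eq_bot_iff_le_centralizer] at h0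
      have hc : ∀ p ∈ der (C i), ∀ q ∈ der (C j), Commute p q := fun p hp q hq =>
        (Subgroup.mem_centralizer_iff.1 (h0 hp) q hq).symm
      exfalso
      have key : ∀ i j, i ≠ j → (∀ p ∈ der (C i), ∀ q ∈ der (C j), Commute p q) →
          ∀ k, k ≠ i → k ≠ j → der (C i) = der (C k) := by
        intro i j hij hc k hki hkj
        have h := hPmove (mem_el T (r j)) i
        rw [hswap, hr, (by decide : ∀ i j k : Fin 3, i ≠ j → k ≠ i → k ≠ j → Equiv.swap (j + 1) (j + 2) i = k) i j k hij hki hkj] at h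
        rw [← h]
        apply le_antisymm
        on_goal 1 => refine fun p hp => ⟨p, hp, ?_⟩
        · show (r j : G) * p * (r j : G)⁻¹ = p
          rw [mul_inv_eq_iff_eq_mul]
          exact (mul_inv_eq_iff_eq_mul.1 (hcent i j hc p hp _ (mem_comp_self _))).symm
        · rintro _ ⟨p, hp, rfl⟩
          show (r j : G) * p * (r j : G)⁻¹ ∈ _
          rw [mul_inv_eq_iff_eq_mul.2 (mul_inv_eq_iff_eq_mul.1 (hcent i j hc p hp _ (mem_comp_self _))).symm]
          exact hp
      obtain ⟨k, hki, hkj⟩ := (by decide : ∀ i j : Fin 3, ∃ k, k ≠ i ∧ k ≠ j) i j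
      have e1 := key i j hij hc k hki hkj
      have e2 := key j i hij.symm (fun p hp q hq => (hc q hq p hp).symm) k hkj hki
      obtain ⟨p, hp, q, hq, hpq⟩ := (hS i).noncomm
      exact hpq (hc p hp q (e2.symm ▸ e1 ▸ hq))
    · rcases (hS j).dichotomy (hR ▸ inf_le_right) hRj with hcen | hall'
      · exfalso
        obtain ⟨p, hp, q, hq, hpq⟩ := (hS i).noncomm
        have hqR : q ∈ R := hall ▸ hq
        have hpR : p ∈ R := hall ▸ hp
        rw [hR] at hpR
        exact hpq (hcen q hqR p (der_le _ hpR.2)).symm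
      · rw [← hall, hall']
  obtain ⟨P, hP⟩ : ∃ P : Subgroup G, ∀ i, der (C i) = P := ⟨der (C 0), fun i => by
    by_cases h : i = 0
    · rw [h]
    · exact hpair i 0 h⟩
  have hPle : P ≤ L := hP 0 ▸ hPL 0
  obtain ⟨P', hP'⟩ : ∃ P' : Subgroup ↥L, P' = P.subgroupOf L := ⟨_, rfl⟩
  haveI hP'n : P'.Normal := by
    subst hP'
    refine ⟨fun p hp g => ?_⟩
    have h := hPmove g 0
    rw [hP, hP] at h
    exact h.le ⟨(p : G), hp, rfl⟩
  have hPker : P' ≤ ρ.ker := fun p hp => hfix 0 p (by subst hP'; rw [hP]; exact hp)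
  have hcenter : ∀ p : ↥P, p ∈ Subgroup.center ↥P →
      (⟨p, hPle p.2⟩ : ↥L) ∈ Subgroup.center ↥L := by
    intro p hp
    rw [Subgroup.mem_center_iff]
    rintro ⟨g, hg⟩
    refine Subtype.ext (show g * (p : G) = (p : G) * g from ?_)
    induction hg using Subgroup.closure_induction with
    | mem y hy =>
      refine ((hS (lab ⟨y, hy⟩)).centre (by rw [hP]; exact p.2) (fun q hq => ?_) ?_).symm.eq
      · exact (congrArg Subtype.val (Subgroup.mem_center_iff.1 hp ⟨q, hP (lab ⟨y, hy⟩) ▸ hq⟩)).symm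
      · exact Subgroup.subset_closure (hC ⟨y, hy⟩ ▸ mem_comp_self y)
    | one => rw [one_mul, mul_one]
    | mul a b _ _ h1 h2 => exact (show Commute (a * b) (p : G) from (show Commute a (p : G) from h1).mul_left h2).eq
    | inv a _ h1 => exact (show Commute a (p : G) from h1).inv_left.eq
  -- the normal subgroup
  obtain ⟨N, hN⟩ : ∃ N : Subgroup (Quot A), N = P'.map (QuotientGroup.mk' _) := ⟨_, rfl⟩
  have hNn : N.Normal := hN ▸ hP'n.map _ (QuotientGroup.mk'_surjective _)
  refine ⟨N, hNn, ?_, ?_⟩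
  · obtain ⟨f, hf⟩ : ∃ f : ↥P →* ↥N, ∀ p : ↥P, (f p : Quot A) = QuotientGroup.mk (⟨p, hPle p.2⟩ : ↥L) :=
      ⟨((QuotientGroup.mk' (Subgroup.center ↥L)).comp (Subgroup.inclusion hPle)).codRestrict _ fun p => by
        subst hN hP'; exact ⟨Subgroup.inclusion hPle p, p.2, rfl⟩, fun p => rfl⟩
    have hs : Function.Surjective f := by
      rintro ⟨t, ht⟩
      rw [hN, hP'] at ht
      obtain ⟨q, hq, rfl⟩ := ht
      exact ⟨⟨q, hq⟩, Subtype.ext (hf _)⟩
    have hk : f.ker = Subgroup.center ↥P := by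
      ext p
      rw [MonoidHom.mem_ker, Subtype.ext_iff, hf]
      constructor
      · intro h
        have h' := (QuotientGroup.eq_one_iff _).1 h
        exact Subgroup.mem_center_iff.2 fun q => Subtype.ext
          (congrArg (fun z : ↥L => (z : G)) (Subgroup.mem_center_iff.1 h' ⟨q, hPle q.2⟩))
      · exact fun h => (QuotientGroup.eq_one_iff _).2 (hcenter p h)
    obtain ⟨φ⟩ := (hS 0).iso
    rw [hP 0] at φ
    exact ⟨((QuotientGroup.quotientKerEquivOfSurjective f hs).symm.trans
      (QuotientGroup.quotientMulEquivOfEq hk)).trans φ⟩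
  · -- the quotient permutes the components faithfully
    have hZ : Subgroup.center ↥L ≤ ρ.ker := by
      intro z hz
      rw [MonoidHom.mem_ker]
      ext i
      rw [← hr i, hmove, Equiv.Perm.one_apply]
      congr 2
      refine Subtype.ext ?_
      have := congrArg (fun w : ↥L => (w : G)) (Subgroup.mem_center_iff.1 hz (mem_el T (r i)))
      show (z : G) * (r i : G) * (z : G)⁻¹ = (r i : G)
      rw [show (z : G) * (r i : G) = (r i : G) * z from this.symm, mul_inv_cancel_right]
    let π := QuotientGroup.mk' P'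
    let ρ' : ↥L ⧸ P' →* Equiv.Perm (Fin 3) := QuotientGroup.lift P' ρ hPker
    let t : Fin 3 → ↥L ⧸ P' := fun i => π (mem_el T (r i))
    have ht : ∀ i, ρ' (t i) = Equiv.swap (i + 1) (i + 2) := fun i => by
      show ρ (mem_el T (r i)) = _
      rw [hswap, hr]
    have ht2 : ∀ i, t i * t i = 1 := fun i => by
      show π (mem_el T (r i)) * π (mem_el T (r i)) = 1
      rw [← map_mul, show mem_el T (r i) * mem_el T (r i) = 1 from Subtype.ext (Basic.sq T.tt (r i).2), map_one]
    have hcl : ∀ y : A, π (mem_el T y) = t (lab y) := fun y => by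
      refine QuotientGroup.eq.2 ?_
      subst hP'
      show ((mem_el T y)⁻¹ * mem_el T (r (lab y)) : ↥L).1 ∈ P
      rw [← hP (lab y)]
      show (y : G)⁻¹ * (r (lab y) : G) ∈ _
      rw [Basic.inv_eq T.tt y.2]
      exact (hS (lab y)).space.prod_mem_commutator (hC y ▸ mem_comp_self (y : G)) (mem_comp_self _)
    have h2 : t 2 = t 0 * t 1 * t 0 := by
      have e : lab ⟨(r 0 : G) * (r 1 : G) * (r 0 : G)⁻¹, T.conj _ (r 0).2 _ (r 1).2⟩ = 2 := by
        have := hmove (mem_el T (r 0)) (r 1)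
        rw [hswap, hr, hr] at this
        exact this.symm.trans (by decide)
      have e' := hcl ⟨(r 0 : G) * (r 1 : G) * (r 0 : G)⁻¹, T.conj _ (r 0).2 _ (r 1).2⟩
      rw [e] at e'
      rw [← e', show mem_el T ⟨(r 0 : G) * (r 1 : G) * (r 0 : G)⁻¹, T.conj _ (r 0).2 _ (r 1).2⟩ =
        mem_el T (r 0) * mem_el T (r 1) * (mem_el T (r 0))⁻¹ from rfl, map_mul, map_mul, map_inv,
        inv_eq_of_mul_eq_one_right (ht2 0)]
    have hb : t 0 * t 1 * t 0 = t 1 * t 0 * t 1 := by
      have hnc : ¬ Commute (r 0 : G) (r 1 : G) := fun k => by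
        have := (hiff (r 0) (r 1)).2 (comp_closed (mem_comp_self _) (r 0).2 (r 1).2 k)
        rw [hr, hr] at this
        exact absurd this (by decide)
      show π _ * π _ * π _ = π _ * π _ * π _
      simp only [← map_mul]
      exact congrArg π (Subtype.ext (Basic.braid T.tt (r 0).2 (r 1).2 hnc))
    obtain ⟨W, hW⟩ : ∃ W : Set (↥L ⧸ P'),
        W = {1, t 0, t 1, t 0 * t 1, t 1 * t 0, t 0 * t 1 * t 0} := ⟨_, rfl⟩
    obtain ⟨Stb, hStb⟩ : ∃ Stb : Set (↥L ⧸ P'), Stb = {h | ∀ w ∈ W, h * w ∈ W} := ⟨_, rfl⟩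
    have hs0 : t 0 ∈ Stb := by
      subst hStb hW
      rintro w (rfl | rfl | rfl | rfl | rfl | rfl) <;>
        simp [← mul_assoc, ht2]
    have hs1 : t 1 ∈ Stb := by
      subst hStb hW
      rintro w (rfl | rfl | rfl | rfl | rfl | rfl)
      · simp
      · simp
      · simp [ht2]
      · simp only [← mul_assoc]
        rw [show t 1 * t 0 * t 1 = t 0 * t 1 * t 0 from hb.symm]; simp
      · simp [← mul_assoc, ht2]
      · rw [hb, ← mul_assoc, ← mul_assoc, ht2, one_mul]; simp
    have hmul : ∀ p ∈ Stb, ∀ q ∈ Stb, p * q ∈ Stb := by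
      subst hStb
      intro p hp q hq w hw
      rw [mul_assoc]; exact hp _ (hq w hw)
    have hti : ∀ i, t i ∈ Stb := fun i => by
      fin_cases i
      exacts [hs0, hs1, by rw [show t (⟨2, _⟩ : Fin 3) = t 2 from rfl, h2]; exact hmul _ (hmul _ hs0 _ hs1) _ hs0]
    have hall : ∀ g : ↥L, π g ∈ Stb ∧ (π g)⁻¹ ∈ Stb := by
      rintro ⟨g, hg⟩
      have h1 : (1 : ↥L ⧸ P') ∈ Stb := by subst hStb; intro w hw; rwa [one_mul]
      induction hg using Subgroup.closure_induction with
      | mem y hy =>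
        rw [show (⟨y, _⟩ : ↥L) = mem_el T ⟨y, hy⟩ from rfl, hcl, inv_eq_of_mul_eq_one_right (ht2 _)]
        exact ⟨hti _, hti _⟩
      | one => rw [show (⟨1, _⟩ : ↥L) = 1 from rfl, map_one, inv_one]; exact ⟨h1, h1⟩
      | mul a b ha hb h2 h3 =>
        rw [show (⟨a * b, _⟩ : ↥L) = ⟨a, ha⟩ * ⟨b, hb⟩ from rfl, map_mul, mul_inv_rev]
        exact ⟨hmul _ h2.1 _ h3.1, hmul _ h3.2 _ h2.2⟩
      | inv a ha h2 =>
        rw [show (⟨a⁻¹, _⟩ : ↥L) = ⟨a, ha⟩⁻¹ from rfl, map_inv, inv_inv]
        exact ⟨h2.2, h2.1⟩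
    have hkerP : ρ.ker ≤ P' := by
      intro g hg
      have hgW : π g ∈ W := by
        have := (hall g).1
        rw [hStb] at this
        simpa using this 1 (by rw [hW]; simp)
      have hg1 : ρ' (π g) = 1 := hg
      rw [hW] at hgW
      rcases hgW with e | e | e | e | e | e
      · exact (QuotientGroup.eq_one_iff g).1 e
      all_goals
        exfalso
        rw [e] at hg1
        simp only [map_mul, ht] at hg1
        revert hg1
        decide
    obtain ⟨θ, hθ⟩ : ∃ θ : Quot A →* Equiv.Perm (Fin 3), ∀ g : ↥L, θ (QuotientGroup.mk g) = ρ g :=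
      ⟨QuotientGroup.lift _ ρ hZ, fun g => rfl⟩
    have hθs : Function.Surjective θ := by
      intro σ
      have hσ : σ ∈ θ.range := by
        have hm : ∀ i : Fin 3, Equiv.swap (i + 1) (i + 2) ∈ θ.range := fun i =>
          ⟨QuotientGroup.mk (mem_el T (r i)), by rw [hθ, hswap, hr]⟩
        have hcases : ∀ σ : Equiv.Perm (Fin 3), σ = 1 ∨ σ = Equiv.swap 1 2 ∨ σ = Equiv.swap 2 0 ∨ σ = Equiv.swap 0 1 ∨
            σ = Equiv.swap 1 2 * Equiv.swap 2 0 ∨ σ = Equiv.swap 2 0 * Equiv.swap 1 2 := by decide +kernel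
        rcases hcases σ with e | e | e | e | e | e <;> rw [e]
        exacts [one_mem _, hm 0, hm 1, hm 2, mul_mem (hm 0) (hm 1), mul_mem (hm 1) (hm 0)]
      exact hσ
    have hθk : N = θ.ker := by
      subst hN
      ext z
      obtain ⟨g, rfl⟩ := QuotientGroup.mk_surjective z
      rw [MonoidHom.mem_ker, hθ]
      constructor
      · rintro ⟨p, hp, e⟩
        rw [← hθ g, ← show θ (QuotientGroup.mk p) = θ (QuotientGroup.mk g) from congrArg θ e, hθ]
        exact hPker hp
      · exact fun h => ⟨g, hkerP h, rfl⟩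
    exact ⟨(QuotientGroup.quotientMulEquivOfEq hθk).trans (QuotientGroup.quotientKerEquivOfSurjective θ hθs)⟩

end Cfsg.Agent.Fischer
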