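import Cfsg.Agent.Lib.Fischer.Big.Facts23
import Cfsg.Agent.Lib.Fischer.Big.M22
import Cfsg.Agent.Lib.Fischer.Big.Triple

/-!
Fischer's theorem: over M(23) there is only M(24).
-/

set_option autoImplicit false
set_option linter.unusedSectionVars false

namespace Cfsg.Agent.Fischer

open Cfsg.Agent.ThreeTransp.Factor (nb)

universe u

/-- A common set over M(23) has three components of plus type in dimension eight. -/
theorem Big.Over23.three {G : Type u} [Group G] [Finite G] {D : Set G} (S : Big.Over23 D) (hB : Below.{u} D.ncard)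
    {x c : G} (hx : x ∈ D) (hc : c ∈ D) (hxc : ¬ Commute x c) : Three (com D x c) := by
  have hD := S.std.grp
  have hn := S.ncard_com hx hc hxc
  have key : ∀ a ∈ com D x c, (comp (com D x c) a).ncard = 1080 ∧ Piece (comp (com D x c) a) := by
    intro a ha
    have hA := comp_space hD (fun p hp => S.localOK hx hc hxc hp) ha
    have hsub : insert a (nb (comp (com D x c) a) a) ⊆ comp (com D x c) a :=
      Set.insert_subset (mem_comp_self a) fun y hy => hy.1
    have hlow := Set.ncard_le_ncard hsub (Set.toFinite _)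
    rw [Set.ncard_insert_of_notMem (fun h => h.2.1 rfl) (Set.toFinite _),
      S.degree hx hc hxc ha (mem_comp_self a)] at hlow
    obtain ⟨j, hj⟩ := comps_three_pow (com_tt hD) (com_conj hD) ⟨a, ha⟩
    have e := ncard_eq_comps_mul (com_tt hD) (com_conj hD) ha
    rw [hj, hn] at e
    have hj3 : j < 3 := by
      by_contra h
      push Not at h
      have h27 : 3 ^ 3 ≤ 3 ^ j := Nat.pow_le_pow_right (by norm_num) h
      have := Nat.mul_le_mul h27 hlow
      omega
    have hs : Special (comp (com D x c) a) := by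
      interval_cases j
      · exact Or.inr (Or.inr (Or.inr (Or.inr ⟨by omega, fun p hp => S.degree hx hc hxc ha hp⟩)))
      · exact Or.inr (Or.inr (Or.inr (Or.inl (by omega))))
      · exact Or.inr (Or.inr (Or.inl (by omega)))
    have hlt : (comp (com D x c) a).ncard < D.ncard := by
      have h1 := Set.ncard_le_ncard (comp_subset ha) (Set.toFinite _)
      have h2 := Set.ncard_le_ncard (show nb D x ⊆ D from fun y hy => hy.1) (Set.toFinite _)
      rw [S.ncard_nb hx] at h2
      omega
    rcases hA.special_cases (hA.types hB hlt) hs with ⟨h, -⟩ | ⟨h, -⟩ | ⟨h, Q, hQ, g, e', he'⟩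
    · omega
    · omega
    · exact ⟨h, piece_of_o3 hA hQ g e' he'⟩
  obtain ⟨a, ha⟩ := S.std.com_nonempty hx hc hxc
  refine ⟨com_tt hD, com_conj hD, ?_, fun b hb => (key b hb).2⟩
  have e := ncard_eq_comps_mul (com_tt hD) (com_conj hD) ha
  rw [(key a ha).1, hn] at e
  omega

theorem row_m23 {G : Type u} [Group G] [Finite G] {D : Set G} {x : G} (hD : Std D) (hx : x ∈ D)
    (hB : Below.{u} D.ncard) (hE : Cfsg.IsOfTypeM23 (Quot (nb D x)) (img (nb D x))) : Types D := by
  have S := Big.over23 hD hx hE
  obtain ⟨c, hc, hxc⟩ := hD.exists_noncomm hx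
  obtain ⟨N, hN, hiso, hquot⟩ := (S.three hB hx hc hxc).shape
  have h24 : Cfsg.IsOfTypeM24 G D := ⟨hD.cent, x, hx, c, hc, hxc, hE, N, hN, hiso, hquot⟩
  obtain ⟨f, hf⟩ := exists_quot_self hD.grp hD.cent
  exact .m24 (img_eq hf ▸ type24 f.symm D h24)

end Cfsg.Agent.Fischer
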