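import Cfsg.Agent.Lib.Fischer.Big.Facts22
import Cfsg.Agent.Lib.Fischer.Core.Odd
import Cfsg.Agent.Lib.Fischer.Core.Polar
import Cfsg.Agent.GenA.Tower.Graph24

/-!
Fischer's theorem: there is nothing over M(24).
-/

set_option autoImplicit false
set_option linter.unusedSectionVars false

namespace Cfsg.Agent.Fischer

open Cfsg.Agent.ThreeTransp
open Cfsg.Agent.ThreeTransp.Factor (nb Hd Sd Dl Dq Sep)
open Cfsg.Agent.GenA.Tower (sdCongr image_Dq image_conj far pr pr_mem pr_comm ncard_pr
  image_nb_pr image_one image_two)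

universe u

namespace Big

/-- A candidate for the integer square root. -/
def root24 (m : ℕ) : ℕ :=
  (List.range 12).foldr (fun i r => if (r + 2 ^ i) * (r + 2 ^ i) ≤ m then r + 2 ^ i else r) 0

/-- The discriminant as a natural number. -/
def disc24 (s : ℕ) : ℕ := ((31671 - s) + (s - 31671)) ^ 2 + 4 * (306936 - s)

/-- No admissible number of common neighbours has a square discriminant. -/
theorem mu_none {s : ℕ} (h1 : 28313 ≤ s) (h2 : s ≤ 32103) (hd : s ∣ 84488431104) {j : ℤ}
    (hj : ((31671 : ℤ) - s) ^ 2 + 4 * ((306936 : ℤ) - s) = j ^ 2) : False := by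
  have key : ∀ q < 76, ∀ r < 50, 28313 + (50 * q + r) ≤ 32103 → 28313 + (50 * q + r) ∣ 84488431104 →
      root24 (disc24 (28313 + (50 * q + r))) * root24 (disc24 (28313 + (50 * q + r))) <
          disc24 (28313 + (50 * q + r)) ∧
        disc24 (28313 + (50 * q + r)) <
          (root24 (disc24 (28313 + (50 * q + r))) + 1) * (root24 (disc24 (28313 + (50 * q + r))) + 1) := by
    decide +kernel
  obtain ⟨k1, k2⟩ : root24 (disc24 s) * root24 (disc24 s) < disc24 s ∧
      disc24 s < (root24 (disc24 s) + 1) * (root24 (disc24 s) + 1) := by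
    have h := key ((s - 28313) / 50) (by omega) ((s - 28313) % 50) (Nat.mod_lt _ (by norm_num))
    rw [Nat.div_add_mod, Nat.add_sub_cancel' h1] at h
    exact h h2 hd
  have hdj : disc24 s = j.natAbs * j.natAbs := by
    zify
    rw [disc24, abs_mul_abs_self, ← pow_two, ← hj]
    rcases Nat.le_total s 31671 with h | h
    · rw [Nat.sub_eq_zero_of_le h, add_zero]
      push_cast [h, show s ≤ 306936 by omega]
      ring
    · rw [Nat.sub_eq_zero_of_le h, zero_add]
      push_cast [h, show s ≤ 306936 by omega]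
      ring
  obtain ⟨r, hr⟩ : ∃ r, r = root24 (disc24 s) := ⟨_, rfl⟩
  rw [← hr, hdj] at k1 k2
  have e1 : r < j.natAbs := Nat.mul_self_lt_mul_self_iff.1 k1
  have e2 : j.natAbs < r + 1 := Nat.mul_self_lt_mul_self_iff.1 k2
  omega

/-- Every member has a local space of type M(24). -/
structure Over24 {G : Type u} [Group G] (D : Set G) : Prop where
  std : Std D
  space : ∀ a ∈ D, Space (nb D a)
  loc : ∀ a ∈ D, Cfsg.IsOfTypeM24 (Sd D a) (Dq D a)

variable {G : Type u} [Group G] [Finite G] {D : Set G} (S : Over24 D)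
include S

theorem Over24.sep {a : G} (ha : a ∈ D) : Sep D a := fun _ hx _ hy e =>
  (S.space a ha).eq_of_mk_eq hx hy e

theorem Over24.lstd {a : G} (ha : a ∈ D) : Std (Dq D a) := (S.space a ha).quot

theorem Over24.ncard_nb {a : G} (ha : a ∈ D) : (nb D a).ncard = 306936 := by
  rw [← ncard_pr (S.sep ha) (subset_refl _), image_nb_pr,
    GenA.Tower.M24.ncard_class (S.lstd ha).grp (S.lstd ha).prim (S.loc a ha)]

theorem Over24.ncard_one {a x : G} (ha : a ∈ D) (hx : x ∈ nb D a) :
    (nb D a ∩ nb D x).ncard = 31671 := by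
  rw [← ncard_pr (S.sep ha) Set.inter_subset_left, image_one S.std.grp (S.sep ha) hx,
    GenA.Tower.M24.ncard_nb (S.lstd ha).grp (S.lstd ha).prim (S.loc a ha) (pr_mem hx)]

theorem Over24.ncard_adj {a x z : G} (ha : a ∈ D) (hx : x ∈ nb D a) (hz : z ∈ nb D a) (hne : x ≠ z)
    (hc : Commute x z) : (nb D a ∩ nb D x ∩ nb D z).ncard = 3510 := by
  rw [← ncard_pr (S.sep ha) (Set.inter_subset_left.trans Set.inter_subset_left),
    image_two S.std.grp (S.sep ha) hx hz,
    GenA.Tower.M24.ncard_one (S.lstd ha).grp (S.lstd ha).prim (S.loc a ha) (pr_mem hx)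
      ((GenA.Tower.pr_nb S.std.grp (S.sep ha) hx hz).2 ⟨hz.1, hne.symm, hc⟩)]

theorem Over24.ncard_cross {a x z : G} (ha : a ∈ D) (hx : x ∈ nb D a) (hz : z ∈ nb D a)
    (hc : ¬ Commute x z) : (nb D a ∩ nb D x ∩ nb D z).ncard = 3240 := by
  rw [← ncard_pr (S.sep ha) (Set.inter_subset_left.trans Set.inter_subset_left),
    image_two S.std.grp (S.sep ha) hx hz,
    GenA.Tower.M24.ncard_inter (S.lstd ha).grp (S.lstd ha).prim (S.loc a ha) (pr_mem hx) (pr_mem hz)
      fun h => hc ((pr_comm S.std.grp hx hz).1 h)]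

/-- There is no group over M(24). -/
theorem Over24.false : False := by
  classical
  have hD := S.std.grp
  have hprim := S.std.prim
  have hw := S.std.wide
  obtain ⟨x, hx, -⟩ := id hw
  obtain ⟨c, hc, hxc⟩ := S.std.exists_noncomm hx
  have hk : ∀ a ∈ D, (nb D a).ncard = 306936 := fun a ha => S.ncard_nb ha
  have hl : ∀ a ∈ D, ∀ y ∈ nb D a, (nb D a ∩ nb D y).ncard = 31671 := fun a ha y hy => S.ncard_one ha hy
  obtain ⟨N, -, hNc, hS1, hS2⟩ := GenA.Tower.pair_moments hD hprim hw (k := 306936) (l := 31671)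
    (d := 3240) (e := 3510) hk hl (fun a ha y hy z hz => S.ncard_adj ha hy hz)
    (fun a ha y hy z hz => S.ncard_cross ha hy hz) hx hc hxc
  have hprod := GenA.Tower.far_mul hD hprim hw (k := 306936) (l := 31671) hk hl hx hc hxc
  have hcs := sq_sum_le_card_mul_sum_sq (s := N)
    (f := fun z => ((nb D x ∩ nb D c ∩ nb D z).ncard : ℤ))
  rw [hS1, hS2] at hcs
  have hpos := (Set.ncard_pos (Set.toFinite _)).2 (GenA.Tower.pair_nonempty hD hprim hw hx hc hxc)
  haveI : Fintype D := Fintype.ofFinite _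
  have key := GenA.Tower.srg hD (n := D.ncard) (k := 306936) (l := 31671) (μ := (nb D x ∩ nb D c).ncard)
    hk hl (fun a' ha' c' hc' h' => GenA.Tower.pair_const hD hprim hw ha' hc' h' hx hc hxc) rfl
  have hn := GenA.Tower.ncard_D hD hx
  rw [hk x hx] at hn
  generalize hs : (nb D x ∩ nb D c).ncard = s at hprod hNc hpos hcs key
  generalize hl' : (far D x).ncard = f at hprod hn
  have hN' : (N.card : ℤ) = 306936 - s := by omega
  rw [hN'] at hcs
  norm_num at hcs hprod
  have hs0 : (0 : ℤ) < s := by exact_mod_cast hpos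
  have hpoly : 3240 * (s : ℤ) ^ 2 - 195745248 * s + 306936 * 9594369 ≤ 0 := by
    by_contra hlt
    push Not at hlt
    nlinarith [mul_pos hs0 hlt]
  have h1 : 28313 ≤ s := by
    by_contra hlt
    push Not at hlt
    have : (0 : ℤ) ≤ ((s : ℤ) - 28312) * (3240 * ((s : ℤ) + 28312) - 195745248) :=
      mul_nonneg_of_nonpos_of_nonpos (by omega) (by omega)
    nlinarith
  have h2 : s ≤ 32103 := by
    by_contra hgt
    push Not at hgt
    have : (0 : ℤ) ≤ ((s : ℤ) - 32104) * (3240 * ((s : ℤ) + 32104) - 195745248) :=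
      mul_nonneg (by omega) (by omega)
    nlinarith
  obtain ⟨j, hj⟩ := M22.Discr.discr_square _ key (by
      have hf0 : 0 < f := Nat.pos_of_ne_zero fun e => by rw [e] at hprod; omega
      omega) (by norm_num) (by omega) (by
    rw [hn]
    push_cast
    intro h0
    rcases lt_trichotomy s 31672 with h | h | h
    · have : (0 : ℤ) ≤ ((306936 : ℤ) + f) * ((31671 : ℤ) - s) := mul_nonneg (by omega) (by omega)
      nlinarith
    · subst h; omega
    · have hf0 : 0 < f := Nat.pos_of_ne_zero fun e => by rw [e] at hprod; omega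
      have : ((306936 : ℤ) + f) * 2 ≤ ((306936 : ℤ) + f) * ((s : ℤ) - 31671) :=
        mul_le_mul_of_nonneg_left (by omega) (by omega)
      nlinarith)
  exact mu_none h1 h2 ⟨f, by rw [← hprod, mul_comm]⟩ hj

end Big

theorem row_m24 {G : Type u} [Group G] [Finite G] {D : Set G} {x : G} (hD : Std D) (hx : x ∈ D)
    (_hB : Below.{u} D.ncard) (hE : Cfsg.IsOfTypeM24 (Quot (nb D x)) (img (nb D x))) : Types D := by
  by_cases h3 : ∀ a ∈ D, Cfsg.pCore 3 ↥(Hd D a) ≤ Subgroup.center ↥(Hd D a)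
  · by_cases h2 : ∀ a ∈ D, Cfsg.pCore 2 ↥(Hd D a) ≤ Subgroup.center ↥(Hd D a)
    · refine (Big.Over24.false ⟨hD, fun a ha => hD.space_nb ha (h2 a ha) (h3 a ha), fun a ha => ?_⟩).elim
      obtain ⟨g, hg⟩ := hD.prim.1 x hx a ha
      have hE' : Cfsg.IsOfTypeM24 (Sd D x) (Dq D x) := hE
      have := type24 (sdCongr (MulAut.conj g) D x) (Dq D x) hE'
      rw [image_Dq, image_conj hD.grp, show MulAut.conj g x = a from hg] at this
      exact this
    · push Not at h2
      obtain ⟨a, ha, h2⟩ := h2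
      rcases hD.types_polar ha h2 with ⟨m, hm, e⟩ | ⟨n, hn, e⟩
      exacts [.sp m hm e, .unit n hn e]
  · push Not at h3
    obtain ⟨a, ha, h3⟩ := h3
    exact hD.types_odd ha h3

end Cfsg.Agent.Fischer
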