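import Cfsg.Agent.Lib.Fischer.Graph.Conclusion
import Cfsg.Agent.Lib.ThreeTransp.Ortho7
import Cfsg.Agent.S0296

/-!
Fischer's theorem: the derived group of what an orthogonal space of plus type in dimension eight
generates, inside the ambient group.
-/

set_option autoImplicit false
set_option linter.unusedSectionVars false

namespace Cfsg.Agent.Fischer

open scoped commutatorElement
open Cfsg.Agent.ThreeTransp
open Cfsg.Agent.Forms.PlusStd (plusQ)

universe u

variable {G : Type u} [Group G] [Finite G]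

theorem conj_eq_inv_of_commute {a b : G} (ha : a * a = 1) (hb : b * b = 1) :
    b * (b * a) * b⁻¹ = (b * a)⁻¹ := by
  rw [mul_inv_rev, inv_eq_of_mul_eq_one_right ha, inv_eq_of_mul_eq_one_right hb, ← mul_assoc b b, hb, one_mul]

/-- Only the identity commutes with all products of two members. -/
theorem Std.eq_one_of_evens {D : Set G} (h : Std D) {z : G}
    (hz : ∀ a ∈ D, ∀ b ∈ D, Commute z (a * b)) : z = 1 := by
  have hsq : ∀ {a : G}, a ∈ D → a * a = 1 := fun ha => Classes.sq h.grp ha
  have hinv : ∀ {a : G}, a ∈ D → a⁻¹ = a := fun ha => Classes.inv h.grp ha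
  -- the displacement is the same at every member
  have key : ∀ a ∈ D, z * a * z⁻¹ = a := by
    intro a ha
    by_contra hne
    obtain ⟨u, hu⟩ : ∃ u, u = a * (z * a * z⁻¹) := ⟨_, rfl⟩
    have ha' : z * a * z⁻¹ ∈ D := h.grp.2.1 z a ha
    have hb : ∀ b ∈ D, u = b * (z * b * z⁻¹) := by
      intro b hb
      have hb' : z * b * z⁻¹ ∈ D := h.grp.2.1 z b hb
      have e : z * a * z⁻¹ * (z * b * z⁻¹) = a * b := by
        calc z * a * z⁻¹ * (z * b * z⁻¹) = z * (a * b) * z⁻¹ := by group
          _ = a * b := by rw [(hz a ha b hb).eq, mul_inv_cancel_right]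
      calc u = a * (z * a * z⁻¹) := hu
        _ = a * (z * a * z⁻¹ * (z * b * z⁻¹)) * (z * b * z⁻¹) := by
          simp only [mul_assoc] at *; rw [← hinv hb']; group
        _ = b * (z * b * z⁻¹) := by rw [e, ← mul_assoc a a b, hsq ha, one_mul]
    have hinvu : ∀ b ∈ D, b * u * b⁻¹ = u⁻¹ := fun b hbD => by
      rw [hb b hbD]
      exact conj_eq_inv_of_commute (hsq (h.grp.2.1 z b hbD)) (hsq hbD)
    have hnorm : (Subgroup.zpowers u).Normal := by
      rw [← Subgroup.normalizer_eq_top_iff, eq_top_iff, ← h.grp.2.2, Subgroup.closure_le]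
      intro b hbD
      have hmove : ∀ x ∈ Subgroup.zpowers u, b * x * b⁻¹ ∈ Subgroup.zpowers u := by
        rintro _ ⟨k, rfl⟩
        exact ⟨-k, by simp only [← conj_zpow, hinvu b hbD, inv_zpow, zpow_neg]⟩
      rw [SetLike.mem_coe, Subgroup.mem_normalizer_iff]
      refine fun x => ⟨hmove x, fun hx => ?_⟩
      have := hmove _ hx
      rw [hinv hbD] at this
      simpa [mul_assoc, hsq hbD, ← mul_assoc b b] using this
    have hu1 : u ≠ 1 := fun e => hne (by
      rw [hu] at e
      exact (eq_inv_of_mul_eq_one_right e).trans (hinv ha))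
    have hle : ∀ p, p.Prime → u ^ p = 1 → Cfsg.pCore p G = ⊥ → False := by
      intro p hp hup hc
      haveI := Fact.mk hp
      have : Subgroup.zpowers u ≤ Cfsg.pCore p G := Cores.le_pCore (IsPGroup.of_card (n := 1) (by
        rw [Nat.card_zpowers, orderOf_eq_prime hup hu1, pow_one]))
      rw [hc, le_bot_iff, Subgroup.zpowers_eq_bot] at this
      exact hu1 this
    rcases h.grp.1.2 a ha _ ha' with h' | h'
    · exact hle 2 Nat.prime_two (by rw [hu]; exact h') h.cores.1
    · exact hle 3 Nat.prime_three (by rw [hu]; exact h') h.cores.2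
  have : z ∈ Subgroup.center G := by
    rw [← Subgroup.centralizer_univ, ← Subgroup.coe_top, ← h.grp.2.2, Subgroup.centralizer_closure,
      Subgroup.mem_centralizer_iff]
    exact fun b hb => (mul_inv_eq_iff_eq_mul.1 (key b hb)).symm
  rwa [h.cent, Subgroup.mem_bot] at this

/-- Products of two members lie in the derived group. -/
theorem Space.prod_mem_commutator {E : Set G} (h : Space E) {a b : G} (ha : a ∈ E) (hb : b ∈ E) :
    a * b ∈ ⁅Subgroup.closure E, Subgroup.closure E⁆ := by
  obtain ⟨g, hg, rfl⟩ := h.trans a ha b hb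
  have : a * (g * a * g⁻¹) = ⁅a, g⁆ := by
    rw [commutatorElement_def, Basic.inv_eq h.tt ha]; group
  rw [this]
  exact Subgroup.commutator_mem_commutator (Subgroup.subset_closure ha) hg

/-- The derived group of what the set generates. -/
def der (E : Set G) : Subgroup G := ⁅Subgroup.closure E, Subgroup.closure E⁆

theorem der_le (E : Set G) : der E ≤ Subgroup.closure E := Subgroup.commutator_le_self _

/-- What is used of one component. -/
structure Piece (E : Set G) : Prop where
  space : Space E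
  omega : Nonempty (↥(commutator (Quot E)) ≃* Cfsg.POmega (ZMod 3) (Cfsg.quadFormPlus 4 (ZMod 3)))

theorem piece_of_o3 {E : Set G} (h : Space E) {Q : QuadraticForm (ZMod 3) (Fin 8 → ZMod 3)}
    (hQ : (QuadraticMap.polarBilin Q).Nondegenerate) (g : GIso E (o3R Q))
    (e : (Fin 8 → ZMod 3) ≃ₗ[ZMod 3] (Fin 4 ⊕ Fin 4 → ZMod 3)) (he : ∀ x, plusQ (ZMod 3) 4 (e x) = Q x) :
    Piece E := by
  refine ⟨h, ?_⟩
  obtain ⟨e', he'⟩ := h.exists_equiv
  obtain ⟨ψ, -⟩ := GIso.o3_iso h.img_group h.quot_center (n := 8) (by norm_num) hQ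
    (g.comp e'.symm fun p q => by rw [← he', e'.apply_symm_apply, e'.apply_symm_apply])
  set R := Cfsg.reflectionSubgroup (⇑Q) 1 with hR
  set f : ↥(commutator ↥R) →* Quot E :=
    ψ.symm.toMonoidHom.comp ((QuotientGroup.mk' (Subgroup.center ↥R)).comp (commutator ↥R).subtype) with hf
  have hrange : f.range = commutator (Quot E) := by
    have hs : Function.Surjective (ψ.symm.toMonoidHom.comp (QuotientGroup.mk' (Subgroup.center ↥R))) :=
      ψ.symm.surjective.comp (QuotientGroup.mk'_surjective _)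
    rw [hf, ← MonoidHom.comp_assoc, MonoidHom.range_comp, Subgroup.range_subtype, commutator_def,
      Subgroup.map_commutator, Subgroup.map_top_of_surjective _ hs, commutator_def]
  have hker : f.ker = Subgroup.center ↥(commutator ↥R) := by
    refine le_antisymm (fun k hk => ?_) fun k hk => ?_
    · have hz : (k : ↥R) ∈ Subgroup.center ↥R := by
        rw [← QuotientGroup.eq_one_iff]
        exact ψ.symm.injective (hk.trans (map_one ψ.symm).symm)
      exact Subgroup.mem_center_iff.2 fun m => Subtype.ext (Subgroup.mem_center_iff.1 hz m)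
    · refine h.quot.eq_one_of_evens fun a ha b hb => ?_
      have hab : a * b ∈ f.range := by
        rw [hrange, commutator_def, ← h.img_group.2.2]
        exact (h.quot.space).prod_mem_commutator ha hb
      obtain ⟨m, hm⟩ := hab
      rw [← hm]
      exact (show Commute k m from (Subgroup.mem_center_iff.1 hk m).symm).map f
  obtain ⟨ω⟩ := Ortho7.pomega_congr (Q := ⇑Q) (R := ⇑(plusQ (ZMod 3) 4)) 1 one_ne_zero e
    fun x => by rw [one_mul, he]
  have e₀ : ↥(commutator ↥R) ≃* Cfsg.Omega (ZMod 3) ⇑Q :=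
    (Subgroup.equivMapOfInjective _ _ (Subgroup.subtype_injective _)).trans
      (MulEquiv.subgroupCongr (Ortho3.map_commutator_refl (n := 8) (by norm_num) hQ one_ne_zero))
  have iK : ↥(commutator ↥R) ⧸ Subgroup.center ↥(commutator ↥R) ≃*
      Cfsg.POmega (ZMod 3) (Cfsg.quadFormPlus 4 (ZMod 3)) := by
    rw [← Cfsg.Agent.Classical.OrthForms.plusQ_eq]
    exact (Classical.SmallIso.centerQuotientCongr e₀).trans ω
  exact ⟨((MulEquiv.subgroupCongr hrange).symm.trans (QuotientGroup.quotientKerEquivRange f).symm).trans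
    ((QuotientGroup.quotientMulEquivOfEq hker).trans iK)⟩

namespace Piece

variable {E : Set G} (S : Piece E)
include S

theorem simple : IsSimpleGroup ↥(commutator (Quot E)) := by
  obtain ⟨φ⟩ := S.omega
  haveI : IsSimpleGroup (Cfsg.POmega (ZMod 3) (Cfsg.quadFormPlus 4 (ZMod 3))) :=
    Cfsg.Agent.S0296.result 4 le_rfl
  exact φ.isSimpleGroup

/-- Only the identity of the derived quotient centralises it. -/
theorem quot_cent {s : Quot E} (h : ∀ t ∈ commutator (Quot E), Commute s t) : s = 1 :=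
  S.space.quot.eq_one_of_evens fun a ha b hb => h _ (by
    rw [commutator_def, ← S.space.img_group.2.2]
    exact S.space.quot.space.prod_mem_commutator ha hb)

theorem mk_mem {p : ↥(Subgroup.closure E)} (h : (p : G) ∈ der E) :
    (QuotientGroup.mk p : Quot E) ∈ commutator (Quot E) := by
  rw [der, ← Subgroup.map_subtype_commutator] at h
  obtain ⟨q, hq, hqp⟩ := h
  obtain rfl : q = p := Subtype.ext hqp
  have := Subgroup.mem_map_of_mem (QuotientGroup.mk' (Subgroup.center ↥(Subgroup.closure E))) hq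
  rwa [commutator_def, Subgroup.map_commutator, Subgroup.map_top_of_surjective _
    (QuotientGroup.mk'_surjective _), ← commutator_def] at this

theorem exists_mk {t : Quot E} (h : t ∈ commutator (Quot E)) :
    ∃ p : ↥(Subgroup.closure E), (p : G) ∈ der E ∧ (QuotientGroup.mk p : Quot E) = t := by
  rw [commutator_def, ← Subgroup.map_top_of_surjective _
    (QuotientGroup.mk'_surjective (Subgroup.center ↥(Subgroup.closure E))), ← Subgroup.map_commutator] at h
  obtain ⟨p, hp, rfl⟩ := h
  refine ⟨p, ?_, rfl⟩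
  rw [der, ← Subgroup.map_subtype_commutator]
  exact ⟨p, hp, rfl⟩

theorem commute_of_mk {p : ↥(Subgroup.closure E)} (h : (QuotientGroup.mk p : Quot E) = 1)
    {y : G} (hy : y ∈ Subgroup.closure E) : Commute (p : G) y :=
  congrArg Subtype.val (Subgroup.mem_center_iff.1 ((QuotientGroup.eq_one_iff p).1 h) ⟨y, hy⟩).symm

/-- An element of the derived group centralising it centralises the set. -/
theorem centre {z : G} (hz : z ∈ der E) (h : ∀ p ∈ der E, Commute z p) {y : G}
    (hy : y ∈ Subgroup.closure E) : Commute z y := by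
  refine S.commute_of_mk (p := ⟨z, der_le E hz⟩) (S.quot_cent fun t ht => ?_) hy
  obtain ⟨p, hp, rfl⟩ := S.exists_mk ht
  exact (show Commute (⟨z, der_le E hz⟩ : ↥(Subgroup.closure E)) p from Subtype.ext (h _ hp).eq).map
    (QuotientGroup.mk' _)

/-- A pair centralising the derived group is one member. -/
theorem fix {a b : G} (ha : a ∈ E) (hb : b ∈ E) (h : ∀ p ∈ der E, Commute (a * b) p) : a = b := by
  have h1 : (QuotientGroup.mk ⟨a, Subgroup.subset_closure ha⟩ : Quot E) *
      QuotientGroup.mk ⟨b, Subgroup.subset_closure hb⟩ = 1 := S.quot_cent fun t ht => by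
    obtain ⟨p, hp, rfl⟩ := S.exists_mk ht
    rw [← QuotientGroup.mk_mul]
    exact (show Commute (⟨a, Subgroup.subset_closure ha⟩ * ⟨b, Subgroup.subset_closure hb⟩ :
      ↥(Subgroup.closure E)) p from Subtype.ext (h _ hp).eq).map (QuotientGroup.mk' _)
  have h2 : (QuotientGroup.mk ⟨b, Subgroup.subset_closure hb⟩ : Quot E) =
      QuotientGroup.mk ⟨a, Subgroup.subset_closure ha⟩ := by
    rw [eq_inv_of_mul_eq_one_right h1, ← QuotientGroup.mk_inv]
    exact congrArg _ (Subtype.ext (Basic.inv_eq S.space.tt ha))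
  exact (congrArg Subtype.val (S.space.eq_of_mk_eq (a := (⟨b, Subgroup.subset_closure hb⟩ : ↥(Subgroup.closure E)))
    (b := ⟨a, Subgroup.subset_closure ha⟩) hb ha h2)).symm

/-- The derived group is not commutative. -/
theorem noncomm : ∃ p ∈ der E, ∃ q ∈ der E, ¬ Commute p q := by
  by_contra! h
  haveI := S.simple
  obtain ⟨⟨s, hs⟩, hne⟩ := exists_ne (1 : ↥(commutator (Quot E)))
  refine hne (Subtype.ext (S.quot_cent fun t ht => ?_))
  obtain ⟨p, hp, rfl⟩ := S.exists_mk hs
  obtain ⟨q, hq, rfl⟩ := S.exists_mk ht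
  exact (show Commute p q from Subtype.ext (h _ hp _ hq).eq).map (QuotientGroup.mk' _)

/-- The derived quotient is its own derived group. -/
theorem quot_perfect : ⁅commutator (Quot E), commutator (Quot E)⁆ = commutator (Quot E) := by
  haveI := S.simple
  rcases IsSimpleGroup.eq_bot_or_eq_top_of_normal (commutator ↥(commutator (Quot E))) inferInstance with h | h
  · exfalso
    obtain ⟨⟨s, hs⟩, hne⟩ := exists_ne (1 : ↥(commutator (Quot E)))
    refine hne (Subtype.ext (S.quot_cent fun t ht => ?_))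
    have h1 : ⁅(⟨s, hs⟩ : ↥(commutator (Quot E))), (⟨t, ht⟩ : ↥(commutator (Quot E)))⁆ = 1 := by
      rw [← Subgroup.mem_bot]
      exact h.le (Subgroup.commutator_mem_commutator (Subgroup.mem_top _) (Subgroup.mem_top _))
    exact congrArg Subtype.val (commutatorElement_eq_one_iff_mul_comm.1 h1)
  · rw [← Subgroup.map_subtype_commutator, h, ← MonoidHom.range_eq_map, Subgroup.range_subtype]

/-- The derived group is perfect. -/
theorem perfect : ⁅der E, der E⁆ = der E := by
  refine le_antisymm (Subgroup.commutator_le_self _) ?_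
  set K := Subgroup.closure E
  obtain ⟨P, hP⟩ : ∃ P : Subgroup ↥K, P = commutator ↥K := ⟨_, rfl⟩
  suffices h : P ≤ ⁅P, P⁆ by
    have h' := Subgroup.map_mono (f := K.subtype) h
    rwa [Subgroup.map_commutator, hP, Subgroup.map_subtype_commutator] at h'
  haveI : (⁅P, P⁆ : Subgroup ↥K).Normal := by
    subst hP; infer_instance
  -- everything in the derived group is a product of a central element and one of the second
  have key : ∀ p ∈ P, ∃ q ∈ ⁅P, P⁆, q⁻¹ * p ∈ Subgroup.center ↥K := by
    intro p hp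
    have h1 : (QuotientGroup.mk p : Quot E) ∈ (⁅P, P⁆).map (QuotientGroup.mk' _) := by
      rw [Subgroup.map_commutator, hP, commutator_def, Subgroup.map_commutator,
        Subgroup.map_top_of_surjective _ (QuotientGroup.mk'_surjective _), ← commutator_def, S.quot_perfect]
      apply S.mk_mem
      rw [der, ← Subgroup.map_subtype_commutator]
      exact ⟨p, hP ▸ hp, rfl⟩
    obtain ⟨q, hq, hqp⟩ := h1
    exact ⟨q, hq, QuotientGroup.eq.1 hqp⟩
  have hgen : ∀ a b : ↥K, (a : G) ∈ E → (b : G) ∈ E →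
      Commute (QuotientGroup.mk a : ↥K ⧸ ⁅P, P⁆) (QuotientGroup.mk b) := by
    intro a b ha hb
    have hab : a * b ∈ P := by
      rw [hP, ← Subgroup.mem_map_iff_mem (Subgroup.subtype_injective K) (K := commutator ↥K),
        Subgroup.map_subtype_commutator]
      exact S.space.prod_mem_commutator ha hb
    obtain ⟨q, hq, hz⟩ := key _ hab
    have ha2 : a * a = 1 := Subtype.ext (Basic.sq S.space.tt ha)
    have e : (QuotientGroup.mk b : ↥K ⧸ ⁅P, P⁆) = QuotientGroup.mk (a * (q⁻¹ * (a * b))) := by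
      rw [QuotientGroup.mk_mul, QuotientGroup.mk_mul, QuotientGroup.mk_inv,
        (QuotientGroup.eq_one_iff q).2 hq, inv_one, one_mul, ← QuotientGroup.mk_mul, ← mul_assoc, ha2, one_mul]
    rw [e, QuotientGroup.mk_mul]
    exact (Commute.refl _).mul_right
      ((show Commute a (q⁻¹ * (a * b)) from (Subgroup.mem_center_iff.1 hz a)).map (QuotientGroup.mk' ⁅P, P⁆))
  have hcomm : ∀ a b : ↥K, Commute (QuotientGroup.mk a : ↥K ⧸ ⁅P, P⁆) (QuotientGroup.mk b) := by
    have step : ∀ a : ↥K, (∀ b : ↥K, (b : G) ∈ E → Commute (QuotientGroup.mk a : ↥K ⧸ ⁅P, P⁆) (QuotientGroup.mk b)) →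
        ∀ b : ↥K, Commute (QuotientGroup.mk a : ↥K ⧸ ⁅P, P⁆) (QuotientGroup.mk b) := by
      intro a ha b
      obtain ⟨b, hb⟩ := b
      induction hb using Subgroup.closure_induction with
      | mem y hy => exact ha ⟨y, _⟩ hy
      | one => exact Commute.one_right _
      | mul y z hy hz h1 h2 => exact h1.mul_right h2
      | inv y hy h1 => exact h1.inv_right
    exact fun a => step a fun b hb => (step b (fun c hc => hgen b c hb hc) a).symm
  refine hP.trans_le ?_
  rw [commutator_def, Subgroup.commutator_le]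
  intro a _ b _
  rw [← QuotientGroup.eq_one_iff (N := ⁅P, P⁆)]
  show (QuotientGroup.mk' ⁅P, P⁆) ⁅a, b⁆ = 1
  rw [map_commutatorElement, commutatorElement_eq_one_iff_mul_comm]
  exact (hcomm a b).eq

/-- A part of the derived group normalised by it is central or everything. -/
theorem dichotomy {R : Subgroup G} (hR : R ≤ der E) (hn : ∀ p ∈ der E, ∀ r ∈ R, p * r * p⁻¹ ∈ R) :
    (∀ r ∈ R, ∀ y ∈ Subgroup.closure E, Commute r y) ∨ R = der E := by
  haveI := S.simple
  set K := Subgroup.closure E
  obtain ⟨T, hT⟩ : ∃ T : Subgroup ↥(commutator (Quot E)),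
      T = ((R.subgroupOf K).map (QuotientGroup.mk' _)).subgroupOf (commutator (Quot E)) := ⟨_, rfl⟩
  have hTn : T.Normal := by
    subst hT
    refine ⟨fun t ht g => ?_⟩
    obtain ⟨p, hp, e⟩ := S.exists_mk g.2
    obtain ⟨r, hr, e'⟩ := ht
    refine ⟨p * r * p⁻¹, hn _ hp _ hr, ?_⟩
    show (QuotientGroup.mk' _) (p * r * p⁻¹) = ((g * t * g⁻¹ : ↥(commutator (Quot E))) : Quot E)
    rw [map_mul, map_mul, map_inv, e']
    show QuotientGroup.mk p * _ * (QuotientGroup.mk p)⁻¹ = _
    rw [e]; rfl
  rcases hTn.eq_bot_or_eq_top with h | h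
  · left
    intro r hr y hy
    refine S.commute_of_mk (p := ⟨r, der_le E (hR hr)⟩) ?_ hy
    have hm : (⟨_, S.mk_mem (p := ⟨r, der_le E (hR hr)⟩) (hR hr)⟩ : ↥(commutator (Quot E))) ∈ T := by
      subst hT; exact ⟨⟨r, der_le E (hR hr)⟩, hr, rfl⟩
    rw [h, Subgroup.mem_bot] at hm
    exact congrArg Subtype.val hm
  · right
    refine le_antisymm hR ?_
    have hsplit : ∀ p ∈ der E, ∃ r ∈ R, ∀ y ∈ K, Commute (r⁻¹ * p) y := by
      intro p hp
      have hm : (⟨_, S.mk_mem (p := ⟨p, der_le E hp⟩) hp⟩ : ↥(commutator (Quot E))) ∈ T := by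
        rw [h]; exact Subgroup.mem_top _
      rw [hT] at hm
      obtain ⟨r, hr, e⟩ := hm
      exact ⟨r, hr, fun y hy => S.commute_of_mk (p := r⁻¹ * ⟨p, der_le E hp⟩) (by
        rw [QuotientGroup.mk_mul, QuotientGroup.mk_inv]
        exact inv_mul_eq_one.2 e) hy⟩
    conv_lhs => rw [← S.perfect]
    rw [Subgroup.commutator_le]
    intro p hp q hq
    obtain ⟨r, hr, hz⟩ := hsplit p hp
    obtain ⟨r', hr', hz'⟩ := hsplit q hq
    have hrK := der_le E (hR hr)
    have hrK' := der_le E (hR hr')
    have e : ⁅p, q⁆ = ⁅r, r'⁆ := by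
      have c1 := hz r' hrK'
      have c2 := hz' r hrK
      have c3 : Commute (r⁻¹ * p) (r'⁻¹ * q) :=
        hz _ (mul_mem (inv_mem hrK') (der_le E hq))
      generalize hu : r⁻¹ * p = u at c1 c3
      generalize hv : r'⁻¹ * q = v at c2 c3
      rw [inv_mul_eq_iff_eq_mul] at hu hv
      subst hu hv
      rw [commutatorElement_def, commutatorElement_def, mul_inv_rev, mul_inv_rev]
      calc r * u * (r' * v) * (u⁻¹ * r⁻¹) * (v⁻¹ * r'⁻¹)
          = r * (u * r') * v * u⁻¹ * r⁻¹ * v⁻¹ * r'⁻¹ := by group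
        _ = r * r' * (u * v) * u⁻¹ * r⁻¹ * v⁻¹ * r'⁻¹ := by rw [c1.eq]; group
        _ = r * r' * (v * r⁻¹) * v⁻¹ * r'⁻¹ := by rw [c3.eq]; group
        _ = r * r' * r⁻¹ * r'⁻¹ := by rw [(c2.inv_right).eq]; group
    rw [e, commutatorElement_def]
    exact mul_mem (mul_mem (mul_mem hr hr') (inv_mem hr)) (inv_mem hr')

/-- The derived group modulo its centre. -/
theorem iso : Nonempty (↥(der E) ⧸ Subgroup.center ↥(der E) ≃* Cfsg.POmega (ZMod 3) (Cfsg.quadFormPlus 4 (ZMod 3))) := by
  obtain ⟨φ⟩ := S.omega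
  obtain ⟨f, hf⟩ : ∃ f : ↥(der E) →* ↥(commutator (Quot E)),
      ∀ p : ↥(der E), (f p : Quot E) = QuotientGroup.mk (⟨p, der_le E p.2⟩ : ↥(Subgroup.closure E)) :=
    ⟨((QuotientGroup.mk' _).comp (Subgroup.inclusion (der_le E))).codRestrict _ fun p =>
      S.mk_mem (p := Subgroup.inclusion (der_le E) p) p.2, fun p => rfl⟩
  have hs : Function.Surjective f := by
    rintro ⟨t, ht⟩
    obtain ⟨p, hp, rfl⟩ := S.exists_mk ht
    exact ⟨⟨p, hp⟩, Subtype.ext (hf _)⟩
  have hk : f.ker = Subgroup.center ↥(der E) := by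
    ext p
    rw [MonoidHom.mem_ker, Subtype.ext_iff, hf, Subgroup.mem_center_iff]
    constructor
    · intro h q
      exact Subtype.ext (S.commute_of_mk h (der_le E q.2)).symm.eq
    · intro h
      refine S.quot_cent fun t ht => ?_
      obtain ⟨q, hq, rfl⟩ := S.exists_mk ht
      exact (show Commute (⟨p, der_le E p.2⟩ : ↥(Subgroup.closure E)) q from
        Subtype.ext (congrArg Subtype.val (h ⟨q, hq⟩)).symm).map (QuotientGroup.mk' _)
  exact ⟨((QuotientGroup.quotientMulEquivOfEq hk.symm).trans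
    (QuotientGroup.quotientKerEquivOfSurjective f hs)).trans φ⟩

end Piece

end Cfsg.Agent.Fischer
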